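import Groth.Prelude.Def_FlatCA
import Mathlib.RingTheory.FinitePresentation
import Mathlib.RingTheory.FiniteType

/-!
# Maps from a finitely generated ℤ-algebra into a directed colimit of rings factor through a stage
-/

set_option autoImplicit false
universe u

namespace Groth.Agent.Fdesc.DirColimLift

variable {ι : Type u} [Preorder ι] (G : ι → Type u) [∀ i, CommRing (G i)]
    (g : ∀ i j, i ≤ j → G i →+* G j) {A : Type u} [CommRing A] [∀ i, Algebra (G i) A]

include g in
/-- finitely many elements of the colimit come from a common stage -/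
theorem exists_stage_fin (h : FlatCA.IsDirectedColimitRing G g A) {n : ℕ} (a : Fin n → A) :
    ∃ (i : ι) (x : Fin n → G i), ∀ k, algebraMap (G i) A (x k) = a k := by
  obtain ⟨hdir, hne, hid, hcomp, hcompat, hsurj, hzero⟩ := h
  induction n with
  | zero =>
    obtain ⟨i⟩ := hne
    exact ⟨i, Fin.elim0, fun k => k.elim0⟩
  | succ n ih =>
    obtain ⟨i, x, hx⟩ := ih (fun k => a k.castSucc)
    obtain ⟨j, y, hy⟩ := hsurj (a (Fin.last n))
    obtain ⟨k, hik, hjk⟩ := hdir.directed i j
    refine ⟨k, Fin.lastCases (g j k hjk y) (fun l => g i k hik (x l)), fun l => ?_⟩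
    refine Fin.lastCases ?_ (fun l => ?_) l
    · beta_reduce
      rw [Fin.lastCases_last, ← hy]
      exact RingHom.congr_fun (hcompat j k hjk) y
    · beta_reduce
      rw [Fin.lastCases_castSucc, ← hx l]
      exact RingHom.congr_fun (hcompat i k hik) (x l)

/-- finitely many elements of a stage dying in the colimit die at a common later stage -/
theorem exists_stage_zero (h : FlatCA.IsDirectedColimitRing G g A) (i : ι) (s : Finset (G i))
    (hs : ∀ x ∈ s, algebraMap (G i) A x = 0) : ∃ (j : ι) (hij : i ≤ j), ∀ x ∈ s, g i j hij x = 0 := by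
  classical
  obtain ⟨hdir, hne, hid, hcomp, hcompat, hsurj, hzero⟩ := h
  induction s using Finset.induction_on with
  | empty => exact ⟨i, le_rfl, fun x hx => absurd hx (Finset.notMem_empty x)⟩
  | insert a s _ ih =>
    obtain ⟨j, hij, hj⟩ := ih (fun x hx => hs x (Finset.mem_insert_of_mem hx))
    obtain ⟨k, hik, hk⟩ := hzero i a (hs a (Finset.mem_insert_self a s))
    obtain ⟨l, hjl, hkl⟩ := hdir.directed j k
    refine ⟨l, hij.trans hjl, fun x hx => ?_⟩
    rw [Finset.mem_insert] at hx
    rcases hx with rfl | hx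
    · rw [← hcomp i k l hik hkl, RingHom.comp_apply, hk, map_zero]
    · rw [← hcomp i j l hij hjl, RingHom.comp_apply, hj x hx, map_zero]

/-- A ring map from a finitely generated `ℤ`-algebra to a directed colimit factors through a stage. -/
theorem exists_lift (h : FlatCA.IsDirectedColimitRing G g A) {R : Type u} [CommRing R] [Algebra.FiniteType ℤ R]
    (φ : R →+* A) : ∃ (j : ι) (w : R →+* G j), (algebraMap (G j) A).comp w = φ := by
  have hfp : Algebra.FinitePresentation ℤ R := (Algebra.FinitePresentation.of_finiteType).mp inferInstance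
  obtain ⟨n, f, hf, s, hs⟩ := hfp.out
  obtain ⟨i, x, hx⟩ := exists_stage_fin G g h (fun k : Fin n => φ (f (MvPolynomial.X k)))
  let w₀ : MvPolynomial (Fin n) ℤ →+* G i := (MvPolynomial.aeval x : MvPolynomial (Fin n) ℤ →ₐ[ℤ] G i).toRingHom
  have hw₀ : (algebraMap (G i) A).comp w₀ = φ.comp f.toRingHom := by
    refine MvPolynomial.ringHom_ext (fun r => ?_) (fun k => ?_)
    · simp
    · simp only [RingHom.comp_apply]
      change algebraMap (G i) A ((MvPolynomial.aeval x) (MvPolynomial.X k)) = _
      rw [MvPolynomial.aeval_X]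
      exact hx k
  classical
  obtain ⟨j, hij, hj⟩ := exists_stage_zero G g h i (s.image w₀) (by
    intro y hy
    obtain ⟨r, hr, rfl⟩ := Finset.mem_image.mp hy
    have h1 := RingHom.congr_fun hw₀ r
    rw [RingHom.comp_apply, RingHom.comp_apply] at h1
    rw [h1]
    have h2 : f r = 0 := by
      have : r ∈ RingHom.ker f.toRingHom := by
        rw [← hs]
        exact Ideal.subset_span hr
      exact this
    change φ (f r) = 0
    rw [h2, map_zero])
  let w₁ : MvPolynomial (Fin n) ℤ →+* G j := (g i j hij).comp w₀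
  have hker : RingHom.ker f.toRingHom ≤ RingHom.ker w₁ := by
    rw [← hs, Ideal.span_le]
    intro r hr
    exact hj _ (Finset.mem_image_of_mem w₀ hr)
  refine ⟨j, RingHom.liftOfSurjective f.toRingHom hf ⟨w₁, hker⟩, ?_⟩
  rw [← RingHom.cancel_right hf]
  apply RingHom.ext
  intro r
  rw [RingHom.comp_apply, RingHom.comp_apply, RingHom.comp_apply]
  have h3 : (RingHom.liftOfSurjective f.toRingHom hf ⟨w₁, hker⟩) (f.toRingHom r) = w₁ r :=
    RingHom.liftOfRightInverse_comp_apply _ _ _ _ _
  rw [h3]
  change algebraMap (G j) A (g i j hij (w₀ r)) = _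
  have h4 := RingHom.congr_fun (h.2.2.2.2.1 i j hij) (w₀ r)
  rw [RingHom.comp_apply] at h4
  rw [h4]
  exact RingHom.congr_fun hw₀ r

end Groth.Agent.Fdesc.DirColimLift
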