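import Groth.Agent.Pi1C604.EtTrace
import Mathlib.RingTheory.RingHom.Etale
import Mathlib.RingTheory.Flat.EquationalCriterion
import Mathlib.Algebra.Category.Ring.Constructions
import Mathlib.RingTheory.Finiteness.ModuleFinitePresentation

/-!
# Traces of finite étale ring homomorphisms, in terms of ring homomorphisms

`RTr φ τ` : `τ : B → A` is the trace of the finite étale ring homomorphism `φ : A →+* B`.
-/

universe u

open TensorProduct CategoryTheory
open Groth.Agent.Pi1C604.EtTrace (IsSep IsTr isSep_elem exists_isTr)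

namespace Groth.Agent.Fdesc.EtaleTrace

section Basic

variable {A B : Type u} [CommRing A] [CommRing B]

/-- `τ` is the trace of `φ : A →+* B`. -/
def RTr (φ : A →+* B) (τ : B → A) : Prop :=
  letI := φ.toAlgebra
  ∃ (e : B ⊗[A] B) (τ' : B →ₗ[A] A), IsSep A e ∧ IsTr e τ' ∧ ∀ b, τ' b = τ b

theorem exists_rTr (φ : A →+* B) (h1 : φ.Finite) (h2 : φ.Etale) : ∃ τ, RTr φ τ := by
  letI := φ.toAlgebra
  haveI : Module.Finite A B := h1
  haveI : Algebra.Etale A B := h2
  haveI : Module.FinitePresentation A B := Module.FinitePresentation.of_finite_of_finitePresentation A B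
  haveI : Module.Flat A B := inferInstance
  haveI : Module.Projective A B := Module.Flat.projective_of_finitePresentation
  obtain ⟨τ, hτ⟩ := exists_isTr (isSep_elem A B)
  exact ⟨τ, _, τ, isSep_elem A B, hτ, fun _ => rfl⟩

variable {φ : A →+* B} {τ τ' : B → A}

theorem RTr.map_add (h : RTr φ τ) (x y : B) : τ (x + y) = τ x + τ y := by
  letI := φ.toAlgebra
  obtain ⟨e, τ', -, -, h⟩ := h
  rw [← h, ← h, ← h, _root_.map_add]

theorem RTr.map_mul (h : RTr φ τ) (a : A) (x : B) : τ (φ a * x) = a * τ x := by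
  letI := φ.toAlgebra
  obtain ⟨e, τ', -, -, h⟩ := h
  rw [← h, ← h]
  exact τ'.map_smul a x

theorem RTr.unique (h : RTr φ τ) (h' : RTr φ τ') : τ = τ' := by
  letI := φ.toAlgebra
  obtain ⟨e, t, h1, h2, h⟩ := h
  obtain ⟨e', t', h1', h2', h'⟩ := h'
  obtain rfl := h1.unique h1'
  obtain rfl := h2.unique h1 h2'
  funext b
  rw [← h, ← h']

end Basic

section BaseChange

variable {A B A' B' : CommRingCat.{u}} {φ : A ⟶ B} {α : A ⟶ A'} {β : B ⟶ B'} {φ' : A' ⟶ B'}
  {τ : B → A} {τ' : B' → A'}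

theorem algebra_isPushout (hp : IsPushout φ α β φ') :
    letI := φ.hom.toAlgebra
    letI := α.hom.toAlgebra
    letI := β.hom.toAlgebra
    letI := φ'.hom.toAlgebra
    letI := (φ ≫ β).hom.toAlgebra
    ∃ (_ : IsScalarTower A B B') (_ : IsScalarTower A A' B'), Algebra.IsPushout A A' B B' := by
  letI := φ.hom.toAlgebra
  letI := α.hom.toAlgebra
  letI := β.hom.toAlgebra
  letI := φ'.hom.toAlgebra
  letI := (φ ≫ β).hom.toAlgebra
  haveI h1 : IsScalarTower A B B' := IsScalarTower.of_algebraMap_eq' rfl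
  haveI h2 : IsScalarTower A A' B' := IsScalarTower.of_algebraMap_eq' (by
    change (φ ≫ β).hom = (α ≫ φ').hom
    rw [hp.w])
  refine ⟨h1, h2, ?_⟩
  rw [← CommRingCat.isPushout_iff_isPushout]
  exact hp.flip

/-- `B'` is spanned over `A'` by the image of `B`. -/
theorem span_eq_top (hp : IsPushout φ α β φ') :
    letI := φ'.hom.toAlgebra
    ∀ b' : B', b' ∈ Submodule.span A' (Set.range β.hom) := by
  letI := φ.hom.toAlgebra
  letI := α.hom.toAlgebra
  letI := β.hom.toAlgebra
  letI := φ'.hom.toAlgebra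
  letI := (φ ≫ β).hom.toAlgebra
  obtain ⟨h1, h2, h3⟩ := algebra_isPushout hp
  intro b'
  have hb : IsBaseChange A' (IsScalarTower.toAlgHom A B B').toLinearMap := h3.out
  induction b' using hb.inductionOn with
  | zero => exact zero_mem _
  | tmul m => exact Submodule.subset_span ⟨m, rfl⟩
  | smul s n hn => exact Submodule.smul_mem _ _ hn
  | add x y hx hy => exact add_mem hx hy

theorem RTr.baseChange (hp : IsPushout φ α β φ') (h : RTr φ.hom τ) (h' : RTr φ'.hom τ') (b : B) :
    τ' (β b) = α (τ b) := by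
  letI := φ.hom.toAlgebra
  letI := α.hom.toAlgebra
  letI := β.hom.toAlgebra
  letI := φ'.hom.toAlgebra
  letI := (φ ≫ β).hom.toAlgebra
  obtain ⟨h1, h2, h3⟩ := algebra_isPushout hp
  obtain ⟨e, t, he, ht, h⟩ := h
  obtain ⟨e', t', he', ht', h'⟩ := h'
  let βa : B →ₐ[A] B' := IsScalarTower.toAlgHom A B B'
  let ψ : B ⊗[A] B →ₐ[A] B' ⊗[A'] B' :=
    Algebra.TensorProduct.lift
      (((Algebra.TensorProduct.includeLeft : B' →ₐ[A'] B' ⊗[A'] B').restrictScalars A).comp βa)
      (((Algebra.TensorProduct.includeRight : B' →ₐ[A'] B' ⊗[A'] B').restrictScalars A).comp βa)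
      (fun _ _ => Commute.all _ _)
  have hψ : ∀ a b, ψ (a ⊗ₜ b) = βa a ⊗ₜ βa b := by
    intro a b
    rw [Algebra.TensorProduct.lift_tmul]
    change (βa a ⊗ₜ[A'] (1 : B')) * ((1 : B') ⊗ₜ[A'] βa b) = _
    rw [Algebra.TensorProduct.tmul_mul_tmul, one_mul, mul_one]
  have hsp := span_eq_top hp
  have he2 : IsSep A' (ψ e) := he.map βa (fun s' => by
    have := hsp s'
    exact this) ψ hψ
  let f : B →ₗ[A] A' := (Algebra.linearMap A A').comp t
  let t1 : B' →ₗ[A'] A' := h3.out.lift f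
  have ht1 : ∀ b, t1 (βa b) = algebraMap A A' (t b) := fun b => h3.out.lift_eq f b
  have ht2 : IsTr (ψ e) t1 := ht.map βa ψ hψ t1 ht1
  have hee : ψ e = e' := he2.unique he'
  rw [hee] at ht2
  have htt : t1 = t' := ht2.unique he' ht'
  rw [← h', ← htt, ← h]
  exact ht1 b

theorem RTr.exists_repr (hp : IsPushout φ α β φ') (h' : RTr φ'.hom τ') (ψ : B →+ A')
    (hψ : ∀ (a : A) (b : B), ψ (φ a * b) = α a * ψ b) : ∃ t : B', ∀ b, ψ b = τ' (t * β b) := by
  letI := φ.hom.toAlgebra
  letI := α.hom.toAlgebra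
  letI := β.hom.toAlgebra
  letI := φ'.hom.toAlgebra
  letI := (φ ≫ β).hom.toAlgebra
  obtain ⟨h1, h2, h3⟩ := algebra_isPushout hp
  obtain ⟨e', t', he', ht', h'⟩ := h'
  let f : B →ₗ[A] A' :=
    { toFun := ψ
      map_add' := _root_.map_add ψ
      map_smul' := fun a b => hψ a b }
  let t1 : B' →ₗ[A'] A' := h3.out.lift f
  have ht1 : ∀ b, t1 (algebraMap B B' b) = ψ b := fun b => h3.out.lift_eq f b
  obtain ⟨s, hs⟩ := ht'.exists_eq he' t1
  refine ⟨s, fun b => ?_⟩
  rw [← ht1, hs, h']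
  rfl

theorem RTr.eq_zero (hp : IsPushout φ α β φ') (h' : RTr φ'.hom τ') {t : B'}
    (ht : ∀ b, τ' (t * β b) = 0) : t = 0 := by
  letI := φ'.hom.toAlgebra
  have hsp := span_eq_top hp
  have hadd := h'.map_add
  have hmul := h'.map_mul
  obtain ⟨e', t', he', ht', h''⟩ := h'
  refine ht'.eq_zero_of_forall he' fun x => ?_
  rw [h'']
  induction hsp x using Submodule.span_induction with
  | mem x hx =>
    obtain ⟨b, rfl⟩ := hx
    exact ht b
  | zero =>
    rw [mul_zero, ← h'', _root_.map_zero]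
  | add x y _ _ hx hy => rw [mul_add, hadd, hx, hy, add_zero]
  | smul r x _ hx =>
    have : t * r • x = φ'.hom r * (t * x) := by
      rw [Algebra.smul_def]
      exact mul_left_comm _ _ _
    rw [this, hmul, hx, mul_zero]

theorem RTr.ext (hp : IsPushout φ α β φ') (h' : RTr φ'.hom τ') {t s : B'}
    (ht : ∀ b, τ' (t * β b) = τ' (s * β b)) : t = s := by
  rw [← sub_eq_zero]
  refine RTr.eq_zero hp h' fun b => ?_
  have h1 := h'.map_add ((t - s) * β b) (s * β b)
  rw [← add_mul, sub_add_cancel, ht] at h1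
  exact (add_eq_right.mp h1.symm)

end BaseChange

end Groth.Agent.Fdesc.EtaleTrace
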