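import Groth.Agent.CohqB.HomSheafMap

/-!
# Sections and morphisms of sheaves of modules from data on the affine opens
-/

set_option autoImplicit false

universe u

open CategoryTheory AlgebraicGeometry Opposite TopologicalSpace

namespace Groth.Agent.Fdesc.GlueAff

open Groth.Agent.CohqB.HomSheaf

variable {X : Scheme.{u}}

/-- the affine opens contained in `W` -/
abbrev AffLe (W : X.Opens) : Type u := {V : X.affineOpens // V.1 ≤ W}

theorem le_iSup_affLe (W : X.Opens) : W ≤ ⨆ V : AffLe W, V.1.1 := by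
  intro x hx
  obtain ⟨_, ⟨V, hV, rfl⟩, hxV, hVU⟩ := X.isBasis_affineOpens.exists_subset_of_mem_open hx W.2
  exact Opens.mem_iSup.mpr ⟨⟨⟨V, hV⟩, hVU⟩, hxV⟩

/-- A section of a sheaf of modules is determined by its restrictions to the affine opens. -/
theorem sec_ext_affine (N : X.Modules) (W : X.Opens) {s t : Γ(N, W)}
    (h : ∀ V : AffLe W, N.presheaf.map (homOfLE V.2).op s = N.presheaf.map (homOfLE V.2).op t) :
    s = t :=
  eq_of_locally N (fun V : AffLe W => V.1.1) W (le_iSup_affLe W) (fun V => V.2) s t h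

/-- Glueing of sections given on the affine opens contained in `W`. -/
theorem exists_glue_affine (N : X.Modules) (W : X.Opens) (s : ∀ V : AffLe W, Γ(N, V.1.1))
    (hs : ∀ (V V' : AffLe W) (h : V'.1.1 ≤ V.1.1), N.presheaf.map (homOfLE h).op (s V) = s V') :
    ∃ t : Γ(N, W), ∀ V : AffLe W, N.presheaf.map (homOfLE V.2).op t = s V := by
  refine exists_glue N (fun V : AffLe W => V.1.1) W (le_iSup_affLe W) (fun V => V.2) s ?_
  intro V V' T hV hV'
  refine sec_ext_affine N T fun Q => ?_
  rw [res_res, res_res, hs V ⟨Q.1, Q.2.trans (hV.trans V.2)⟩, hs V' ⟨Q.1, Q.2.trans (hV.trans V.2)⟩]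

/-- Morphisms of sheaves of modules are determined on affine opens. -/
theorem hom_ext_affine {M N : X.Modules} {φ ψ : M ⟶ N}
    (h : ∀ (V : X.affineOpens) (x : Γ(M, V.1)), φ.app V.1 x = ψ.app V.1 x) : φ = ψ := by
  ext W x
  refine sec_ext_affine N W fun V => ?_
  rw [← app_map, ← app_map, h]

/-- Morphisms of sheaves of modules from compatible linear maps on the affine opens. -/
theorem exists_hom_affine (M N : X.Modules) (f : ∀ V : X.affineOpens, Γ(M, V.1) → Γ(N, V.1))
    (hadd : ∀ (V : X.affineOpens) (x y : Γ(M, V.1)), f V (x + y) = f V x + f V y)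
    (hsmul : ∀ (V : X.affineOpens) (r : Γ(X, V.1)) (x : Γ(M, V.1)), f V (r • x) = r • f V x)
    (hres : ∀ (V V' : X.affineOpens) (h : V'.1 ≤ V.1) (x : Γ(M, V.1)),
      f V' (M.presheaf.map (homOfLE h).op x) = N.presheaf.map (homOfLE h).op (f V x)) :
    ∃ φ : M ⟶ N, ∀ (V : X.affineOpens) (x : Γ(M, V.1)), φ.app V.1 x = f V x := by
  have key : ∀ (W : X.Opens) (x : Γ(M, W)), ∃ y : Γ(N, W), ∀ V : AffLe W,
      N.presheaf.map (homOfLE V.2).op y = f V.1 (M.presheaf.map (homOfLE V.2).op x) := by
    intro W x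
    refine exists_glue_affine N W (fun V => f V.1 (M.presheaf.map (homOfLE V.2).op x)) ?_
    intro V V' h
    rw [← hres V.1 V'.1 h, res_res]
  choose F hF using key
  have hres' : ∀ (U V : X.Opens) (h : V ≤ U) (m : Γ(M, U)),
      F V (M.presheaf.map (homOfLE h).op m) = N.presheaf.map (homOfLE h).op (F U m) := by
    intro U V h m
    refine sec_ext_affine N V fun Q => ?_
    rw [hF, res_res, res_res, hF U m ⟨Q.1, Q.2.trans h⟩]
  let G : ∀ U : X.Opens, Γ(M, U) →+ Γ(N, U) := fun U => AddMonoidHom.mk' (F U) (by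
    intro x y
    refine sec_ext_affine N U fun Q => ?_
    rw [hF, map_add, map_add, hadd, hF, hF])
  refine ⟨homMkSec M N G ?_ hres', ?_⟩
  · intro U r m
    refine sec_ext_affine N U fun Q => ?_
    change N.presheaf.map _ (F U (r • m)) = N.presheaf.map _ (r • F U m)
    rw [hF, Scheme.Modules.map_smul, hsmul, Scheme.Modules.map_smul, hF]
  · intro V x
    rw [homMkSec_app]
    change F V.1 x = f V x
    have := hF V.1 x ⟨V, le_rfl⟩
    rw [res_self, res_self] at this
    exact this

end Groth.Agent.Fdesc.GlueAff
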