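import Groth.Agent.Localalg.GrpDim
import Groth.Agent.Localalg.GrpSchComp
import Groth.Agent.CycB.RelDim3
import Groth.Agent.CycB.RelDim4
import Groth.Agent.VarietyB.DimTop
import Groth.Agent.Sga3C.SubGrp

/-!
# Dimension of group schemes over a field: generic points, kernels and images
-/

set_option autoImplicit false
universe u
open CategoryTheory MonoidalCategory CartesianMonoidalCategory MonObj GrpObj AlgebraicGeometry
open TopologicalSpace

namespace Groth.Agent.Fdesc.GrpDimHom

open CycB.RelDim

section Dim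

variable {K : Type u} [Field K]

/-- `x` has no proper generization. -/
def IsGen {X : Type u} [TopologicalSpace X] (x : X) : Prop := ∀ z : X, z ⤳ x → z = x

lemma isGen_iff_fibGeneric {X : Scheme.{u}} (f : X ⟶ Spec (CommRingCat.of K)) (x : X) :
    IsGen x ↔ FibGeneric f x := by
  have hs : ∀ a b : Spec (CommRingCat.of K), a = b := fun a b =>
    Subsingleton.elim (α := PrimeSpectrum K) a b
  exact ⟨fun h z _ hz => h z hz, fun h z hz => h z (hs _ _) hz⟩

lemma isField_top : IsField Γ(Spec (CommRingCat.of K), ⊤) :=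
  (Scheme.ΓSpecIso (CommRingCat.of K)).commRingCatIsoToRingEquiv.toMulEquiv.isField
    (Field.toIsField K)

/-- For a group scheme locally of finite type over a field, the transcendence degree of the
residue field of every generic point is the dimension. -/
theorem rtd_eq (G : Over (Spec (CommRingCat.of K))) [GrpObj G] [LocallyOfFiniteType G.hom] :
    ∃ d : ℕ, topologicalKrullDim G.left = d ∧ ∀ x : G.left, IsGen x → rtd G.hom x = d := by
  have hgrp : GrpObj (Over.mk G.hom) := inferInstanceAs (GrpObj G)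
  have hjac : JacobsonSpace G.left := LocallyOfFiniteType.jacobsonSpace G.hom
  -- the natural number valued transcendence degree
  have hr : ∀ x : G.left, ∃ n : ℕ, rtd G.hom x = n ∧
      topologicalKrullDim (closure {x} : Set G.left) = n := fun x =>
    exists_dim_closure G.hom (isAffineOpen_top _) isField_top x
  choose r hr1 hr2 using hr
  have hs : ∀ a b : Spec (CommRingCat.of K), a = b := fun a b =>
    Subsingleton.elim (α := PrimeSpectrum K) a b
  have hmono : StrictMono r := by
    intro x y hxy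
    have h1 : y ⤳ x := hxy.le
    have h2 := rtd_lt_of_specializes G.hom h1 hxy.ne' (hs _ _)
    rw [hr1, hr1] at h2
    exact_mod_cast h2
  have hmon : ∀ x y : G.left, y ⤳ x → r x ≤ r y := by
    intro x y hxy
    by_cases h : x = y
    · rw [h]
    · have h2 := rtd_lt_of_specializes G.hom hxy (Ne.symm h) (hs _ _)
      rw [hr1, hr1] at h2
      exact (by exact_mod_cast h2 : r x < r y).le
  -- for a closed point `x` and a generic point `ξ` specializing to it, `coheight x ≤ r ξ`
  have key : ∀ (x ξ : G.left), IsGen ξ → ξ ⤳ x → Order.coheight x ≤ (r ξ : ℕ∞) := by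
    intro x ξ hξ hx
    rw [Order.coheight_le_iff]
    intro p hp
    have h1 : p.last ⤳ x := by
      have : x ≤ p.last := hp.trans p.head_le_last
      exact this
    obtain ⟨z, hz1, hz2⟩ := Localalg.GrpSchComp.uniqueGen G x ξ p.last hx h1
    have h3 : z = ξ := hξ z hz1
    subst h3
    have h5 := (p.map r hmono).head_add_length_le_nat
    have h6 : (p.map r hmono).last = r p.last := rfl
    have h7 : (p.map r hmono).length = p.length := rfl
    rw [h6, h7] at h5
    have h8 := hmon _ _ hz2
    have : p.length ≤ r z := by omega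
    exact_mod_cast this
  have hne : Nonempty G.left := ⟨η[G].left (IsLocalRing.closedPoint K)⟩
  -- a generic point
  have hclosed : ∀ x : G.left, IsGen x → ∃ y : G.left, IsClosed ({y} : Set G.left) ∧ x ⤳ y := by
    intro x _
    obtain ⟨y, hy, hyc⟩ := nonempty_inter_closedPoints (Z := closure ({x} : Set G.left))
      ⟨x, subset_closure rfl⟩ isClosed_closure.isLocallyClosed
    exact ⟨y, hyc, specializes_iff_mem_closure.mpr hy⟩
  have main : ∀ x : G.left, IsGen x → topologicalKrullDim G.left = (r x : ℕ) := by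
    intro x hx
    obtain ⟨y, hyc, hxy⟩ := hclosed x hx
    have h1 : topologicalKrullDim G.left = (Order.coheight y : ℕ∞) :=
      Localalg.GrpDim.topologicalKrullDim_eq_of_coheight G.left _ fun z hz =>
        Localalg.GrpDim.coheight_eq_of_closed' G.hom z y hz hyc
    refine le_antisymm ?_ ?_
    · rw [h1]
      exact_mod_cast WithBot.coe_le_coe.mpr (key y x hx hxy)
    · rw [← hr2 x]
      exact topologicalKrullDim_subspace_le _ _
  obtain ⟨x₀⟩ := hne
  obtain ⟨ξ, -, -, hξ⟩ := exists_fibGeneric_specializes G.hom x₀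
  have hξ' : IsGen ξ := (isGen_iff_fibGeneric G.hom ξ).mpr hξ
  refine ⟨r ξ, main ξ hξ', fun x hx => ?_⟩
  have h1 := main x hx
  rw [main ξ hξ'] at h1
  have h2 : r ξ = r x := by exact_mod_cast h1
  rw [h2, hr1]

end Dim

section Ker

variable {S : Scheme.{u}} {G H : Over S} [GrpObj H]

/-- The kernel of a homomorphism of group schemes, as an object over the base. -/
noncomputable def ker (u : G ⟶ H) : Over S :=
  Over.mk (Limits.pullback.fst u.left (η[H] : 𝟙_ (Over S) ⟶ H).left ≫ G.hom)

/-- The inclusion of the kernel. -/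
noncomputable def kerι (u : G ⟶ H) : ker u ⟶ G :=
  Over.homMk (Limits.pullback.fst u.left (η[H] : 𝟙_ (Over S) ⟶ H).left)

lemma toUnit_left (T : Over S) : (toUnit T).left = T.hom := by simp

lemma fst_hom (u : G ⟶ H) : Limits.pullback.fst u.left (η[H] : 𝟙_ (Over S) ⟶ H).left ≫ G.hom =
      Limits.pullback.snd u.left (η[H] : 𝟙_ (Over S) ⟶ H).left := by
  rw [← Over.w u, Limits.pullback.condition_assoc]
  have := Over.w (η[H] : 𝟙_ (Over S) ⟶ H)
  erw [this]
  exact Category.comp_id _

lemma kerι_comp (u : G ⟶ H) : kerι u ≫ u = 1 := by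
  rw [Hom.one_def]
  ext1
  rw [Over.comp_left, Over.comp_left, toUnit_left]
  change Limits.pullback.fst _ _ ≫ u.left =
    (Limits.pullback.fst u.left (η[H] : 𝟙_ (Over S) ⟶ H).left ≫ G.hom) ≫ η[H].left
  rw [fst_hom]
  exact Limits.pullback.condition

instance (u : G ⟶ H) : Mono (kerι u) := by
  have : Mono (kerι u).left := by
    have h1 : Mono (η[H] : 𝟙_ (Over S) ⟶ H).left := by
      have h2 : (η[H] : 𝟙_ (Over S) ⟶ H).left ≫ H.hom = 𝟙 _ := Over.w (η[H] : 𝟙_ (Over S) ⟶ H)
      have : Mono ((η[H] : 𝟙_ (Over S) ⟶ H).left ≫ H.hom) := by rw [h2]; infer_instance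
      exact mono_of_mono _ H.hom
    exact inferInstanceAs (Mono (Limits.pullback.fst u.left (η[H] : 𝟙_ (Over S) ⟶ H).left))
  exact Over.mono_of_mono_left (kerι u)

lemma exists_lift (u : G ⟶ H) {T : Over S} (g : T ⟶ G) (hg : g ≫ u = 1) :
    ∃ h : T ⟶ ker u, h ≫ kerι u = g := by
  have h1 : g.left ≫ u.left = T.hom ≫ (η[H] : 𝟙_ (Over S) ⟶ H).left := by
    rw [← Over.comp_left, hg, Hom.one_def, Over.comp_left, toUnit_left]
  refine ⟨Over.homMk (Limits.pullback.lift g.left T.hom h1) ?_, ?_⟩
  · change Limits.pullback.lift _ _ _ ≫ Limits.pullback.fst _ _ ≫ G.hom = _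
    rw [Limits.pullback.lift_fst_assoc, Over.w]
  · ext1
    exact Limits.pullback.lift_fst _ _ _

/-- Factorization of a morphism through the kernel. -/
noncomputable def kerLift (u : G ⟶ H) {T : Over S} (g : T ⟶ G) (hg : g ≫ u = 1) : T ⟶ ker u :=
  (exists_lift u g hg).choose

@[reassoc (attr := simp)]
lemma kerLift_comp (u : G ⟶ H) {T : Over S} (g : T ⟶ G) (hg : g ≫ u = 1) :
    kerLift u g hg ≫ kerι u = g :=
  (exists_lift u g hg).choose_spec

variable [GrpObj G] (u : G ⟶ H) [IsMonHom u]

lemma ker_mul_aux : ((kerι u ⊗ₘ kerι u) ≫ μ[G]) ≫ u = 1 := by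
  have : (kerι u ⊗ₘ kerι u) ≫ μ[G] = (fst _ _ ≫ kerι u) * (snd _ _ ≫ kerι u) := by
    simp [Hom.mul_def]
  rw [this, mul_comp, Category.assoc, Category.assoc, kerι_comp]
  simp

lemma ker_inv_aux : (kerι u ≫ ι[G]) ≫ u = 1 := by
  rw [Category.assoc, GrpObj.inv_hom, ← Category.assoc, kerι_comp, ← Hom.inv_def, inv_one]

/-- The kernel is a group scheme. -/
@[implicit_reducible]
noncomputable def kerGrp : GrpObj (ker u) :=
  Sga3C.SubGrp.grpObjOfMono (kerι u)
    (kerLift u ((kerι u ⊗ₘ kerι u) ≫ μ[G]) (ker_mul_aux u)) (kerLift_comp _ _ _)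
    (kerLift u η[G] (by rw [IsMonHom.one_hom, one_eq_one])) (kerLift_comp _ _ _)
    (kerLift u (kerι u ≫ ι[G]) (ker_inv_aux u)) (kerLift_comp _ _ _)

/-- The second projection of `G ×_H G` seen on `G × Ker u`. -/
noncomputable def actR : G ⊗ ker u ⟶ G := fst _ _ * (snd _ _ ≫ kerι u)

theorem isPullback_actR : IsPullback (fst G (ker u)) (actR u) u u := by
  have hs : ∀ s : Limits.PullbackCone u u, (s.fst⁻¹ * s.snd) ≫ u = 1 := fun s => by
    rw [mul_comp, ← s.condition, ← mul_comp, inv_mul_cancel, one_comp]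
  refine ⟨⟨?_⟩, ⟨Limits.PullbackCone.IsLimit.mk _
    (fun s => lift s.fst (kerLift u (s.fst⁻¹ * s.snd) (hs s))) ?_ ?_ ?_⟩⟩
  · rw [actR, mul_comp, Category.assoc, kerι_comp]
    simp
  · intro s
    simp
  · intro s
    rw [actR, comp_mul, lift_fst, lift_snd_assoc, kerLift_comp, mul_inv_cancel_left]
  · intro s m h1 h2
    apply CartesianMonoidalCategory.hom_ext
    · rw [lift_fst, h1]
    · rw [lift_snd, ← cancel_mono (kerι u), kerLift_comp, ← h1, ← h2, actR, comp_mul,
        inv_mul_cancel_left, Category.assoc]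

end Ker

section Hom

variable {K : Type u} [Field K] {G H : Over (Spec (CommRingCat.of K))} [GrpObj G] [GrpObj H]
  [LocallyOfFiniteType G.hom] (u : G ⟶ H) [IsMonHom u]

lemma rtd_isIso {X Y Z : Scheme.{u}} (e : X ⟶ Y) [IsIso e] (f : Y ⟶ Z) (x : X) :
    rtd (e ≫ f) x = rtd f (e x) := by
  rw [rtd_comp, rtd_eq_zero_of_isPreimmersion e, add_zero]

lemma fibGeneric_isIso {X Y Z : Scheme.{u}} (e : X ⟶ Y) [IsIso e] (f : Y ⟶ Z) (x : X)
    (h : FibGeneric f (e x)) : FibGeneric (e ≫ f) x := by
  intro x' h1 h2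
  apply e.homeomorph.injective
  exact h _ (by simpa using h1) (h2.map e.continuous)

/-- For `ξ` a generic point of `G`, the transcendence degree of `κ(ξ)` over `κ(u ξ)` is
`dim Ker u`. -/
theorem rtd_hom_eq : ∃ n : ℕ, topologicalKrullDim (ker u).left = n ∧
    ∀ ξ : G.left, IsGen ξ → rtd u.left ξ = n := by
  have hlu : LocallyOfFiniteType u.left := by
    have : LocallyOfFiniteType (u.left ≫ H.hom) := by rw [Over.w]; infer_instance
    exact locallyOfFiniteType_of_comp u.left H.hom
  have hlk : LocallyOfFiniteType (ker u).hom := by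
    change LocallyOfFiniteType (Limits.pullback.fst u.left (η[H] : 𝟙_ (Over _) ⟶ H).left ≫ G.hom)
    rw [fst_hom]
    infer_instance
  let _ : GrpObj (ker u) := kerGrp u
  obtain ⟨n, hn, hn'⟩ := rtd_eq (ker u)
  refine ⟨n, hn, fun ξ hξ => ?_⟩
  -- the point of `G ×_H G`
  let δ : G.left ⟶ Limits.pullback u.left u.left := Limits.pullback.lift (𝟙 _) (𝟙 _) rfl
  let t₀ : (Limits.pullback u.left u.left : Scheme) := δ ξ
  have ht₀2 : Limits.pullback.snd u.left u.left t₀ = ξ := by
    have h1 : δ ≫ Limits.pullback.snd u.left u.left = 𝟙 _ := Limits.pullback.lift_snd _ _ _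
    have h2 : Limits.pullback.snd u.left u.left (δ ξ) =
      (δ ≫ Limits.pullback.snd u.left u.left) ξ := (Scheme.Hom.comp_apply _ _ _).symm
    rw [h1] at h2
    exact h2
  obtain ⟨t, ht, ht1, htg⟩ := exists_fibGeneric_specializes (Limits.pullback.fst u.left u.left) t₀
  have ht2 : Limits.pullback.snd u.left u.left t = ξ := by
    apply hξ
    rw [← ht₀2]
    exact ht.map (Limits.pullback.snd u.left u.left).continuous
  have e1 : rtd (Limits.pullback.fst u.left u.left) t = rtd u.left ξ := by
    rw [rtd_fst_of_fibGeneric_fst htg, ht2]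
  -- transport to `G × Ker u`
  have hpb : IsPullback (fst G (ker u)).left (actR u).left u.left u.left :=
    (isPullback_actR u).map (Over.forget _)
  let e : (Limits.pullback u.left u.left : Scheme) ≅ (G ⊗ ker u).left :=
    (hpb.isoPullback).symm
  have he : e.hom ≫ (fst G (ker u)).left = Limits.pullback.fst u.left u.left :=
    hpb.isoPullback_inv_fst
  let s : (Limits.pullback G.hom (ker u).hom : Scheme) := e.hom t
  have hsg : FibGeneric (Limits.pullback.fst G.hom (ker u).hom) s := by
    have h1 : FibGeneric (Limits.pullback.fst u.left u.left) (e.inv s) := by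
      have : e.inv s = t := by
        change e.inv (e.hom t) = t
        rw [← Scheme.Hom.comp_apply, e.hom_inv_id]; rfl
      rw [this]; exact htg
    have h2 := fibGeneric_isIso e.inv _ s h1
    have h3 : e.inv ≫ Limits.pullback.fst u.left u.left =
        Limits.pullback.fst G.hom (ker u).hom := by
      rw [← he, e.inv_hom_id_assoc]; rfl
    rwa [h3] at h2
  have e2 : rtd (Limits.pullback.fst G.hom (ker u).hom) s =
      rtd (Limits.pullback.fst u.left u.left) t := by
    have := rtd_isIso e.hom (fst G (ker u)).left t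
    rw [he] at this
    exact this.symm
  have e3 := rtd_fst_of_fibGeneric_fst hsg
  rw [← e1, ← e2, e3]
  exact hn' _ ((isGen_iff_fibGeneric _ _).mpr hsg.snd)

/-- The dimension formula over a field. -/
theorem dim_eq [LocallyOfFiniteType H.hom] (hc : IsClosed (Set.range u.left)) :
    topologicalKrullDim G.left = topologicalKrullDim (Set.range u.left) +
      topologicalKrullDim (ker u).left := by
  obtain ⟨d, hd, hd'⟩ := rtd_eq G
  obtain ⟨n, hn, hn'⟩ := rtd_hom_eq u
  -- the transcendence degree of the image of a generic point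
  have key : ∀ ξ : G.left, IsGen ξ → ∃ e : ℕ, e + n = d ∧
      topologicalKrullDim (closure {u.left ξ} : Set H.left) = e := by
    intro ξ hξ
    obtain ⟨e, he, he'⟩ := exists_dim_closure H.hom (isAffineOpen_top _) isField_top (u.left ξ)
    refine ⟨e, ?_, he'⟩
    have h1 := rtd_comp u.left H.hom ξ
    rw [Over.w, hd' ξ hξ, he, hn' ξ hξ] at h1
    exact_mod_cast h1.symm
  have hgen : ∀ x : G.left, ∃ ξ : G.left, IsGen ξ ∧ ξ ⤳ x := by
    intro x
    obtain ⟨ξ, h1, -, h2⟩ := exists_fibGeneric_specializes G.hom x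
    exact ⟨ξ, (isGen_iff_fibGeneric G.hom ξ).mpr h2, h1⟩
  obtain ⟨ξ₀, hξ₀, -⟩ := hgen (η[G].left (IsLocalRing.closedPoint K))
  obtain ⟨e, hed, he⟩ := key ξ₀ hξ₀
  have hall : ∀ ξ : G.left, IsGen ξ → topologicalKrullDim (closure {u.left ξ} : Set H.left) = e := by
    intro ξ hξ
    obtain ⟨e', he1, he2⟩ := key ξ hξ
    have : e' = e := by omega
    rw [he2, this]
  have hZ : topologicalKrullDim (Set.range u.left) = e := by
    have hqs : QuasiSober (Set.range u.left) := hc.isClosedEmbedding_subtypeVal.quasiSober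
    refine le_antisymm ?_ ?_
    · rw [VarietyB.DimTop.topologicalKrullDim_eq_iSup_irreducibleComponents]
      refine iSup_le fun T => ?_
      have hTc : IsClosed T.1 := isClosed_of_mem_irreducibleComponents T.1 T.2
      obtain ⟨⟨t, ⟨x, hx⟩⟩, ht⟩ := QuasiSober.sober T.2.1 hTc
      obtain ⟨ξ, hξ, hξx⟩ := hgen x
      rw [← hall ξ hξ]
      refine VarietyB.DimTop.topologicalKrullDim_le_of_isEmbedding
        (f := (Subtype.val : Set.range u.left → H.left)) Topology.IsInducing.subtypeVal _ _ ?_
      intro y hy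
      have h1 : (⟨t, ⟨x, hx⟩⟩ : Set.range u.left) ⤳ y := ht.specializes hy
      have h2 : t ⤳ y.1 := (subtype_specializes_iff _ _).mp h1
      have h3 : u.left ξ ⤳ t := by
        rw [← hx]
        exact hξx.map u.left.continuous
      exact specializes_iff_mem_closure.mp (h3.trans h2)
    · rw [← he]
      have hsub : closure {u.left ξ₀} ⊆ Set.range u.left :=
        closure_minimal (Set.singleton_subset_iff.mpr ⟨ξ₀, rfl⟩) hc
      exact VarietyB.DimTop.topologicalKrullDim_le_of_isEmbedding
        (f := (id : H.left → H.left)) Topology.IsInducing.id _ _ fun y hy => hsub hy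
  rw [hZ, hn, hd]
  exact_mod_cast hed.symm

end Hom

end Groth.Agent.Fdesc.GrpDimHom
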