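import Groth.Agent.Fdesc.EtaleTrace
import Groth.Agent.Fdesc.GlueAff
import Groth.Agent.CohqA.AffineBaseChange
import Groth.Agent.Divis.IdealComap
import Groth.Agent.PerfB.PushFLF
import Groth.Agent.Sga2.LefClopen
import Groth.Agent.Pi1A.ClopenCrit

/-!
# The Lefschetz condition and finite étale covers

For `g : Z ⟶ U` finite étale and `J` an ideal sheaf on `U` such that `Hom(D, O_U) → lim Hom(D, O_U/J^{n+1})` is
bijective for `D = g_* O_Z`, the map `Γ(Z, O) → lim Γ(Z_n, O)` is bijective (`gammaComplete_comap`), through the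
trace pairing `Γ(Z', O) ≃ Hom(g_* O_Z, i_* O_Y)` for cartesian squares `Z' → Y`, `Z → U`, `i : Y ⟶ U` affine.
Consequence (`restrict_fullyFaithful`): restriction of finite étale covers to `V(J)` is fully faithful
(SGA 2 X 2.5).
-/

set_option autoImplicit false

universe u

open CategoryTheory CategoryTheory.Limits AlgebraicGeometry Opposite TopologicalSpace
open Groth.Agent.Fdesc.EtaleTrace Groth.Agent.Fdesc.GlueAff
open Groth.Agent.CohqA.AffineBaseChange (isPushout_appLE preimage_le)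

namespace Groth.Agent.Fdesc.LefEt

section Trace

variable {U Z Y Z' : Scheme.{u}}

/-- The trace of a finite étale morphism over an affine open. -/
noncomputable def tr (g : Z ⟶ U) [IsFinite g] [Etale g] {V : U.Opens} (hV : IsAffineOpen V) :
    Γ(Z, g ⁻¹ᵁ V) → Γ(U, V) :=
  (exists_rTr (g.appLE V (g ⁻¹ᵁ V) le_rfl).hom
    (by rw [← Scheme.Hom.app_eq_appLE]; exact g.finite_app V hV)
    (g.etale_appLE hV (hV.preimage g) le_rfl)).choose

theorem rTr_tr (g : Z ⟶ U) [IsFinite g] [Etale g] {V : U.Opens} (hV : IsAffineOpen V) :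
    RTr (g.appLE V (g ⁻¹ᵁ V) le_rfl).hom (tr g hV) :=
  (exists_rTr (g.appLE V (g ⁻¹ᵁ V) le_rfl).hom
    (by rw [← Scheme.Hom.app_eq_appLE]; exact g.finite_app V hV)
    (g.etale_appLE hV (hV.preimage g) le_rfl)).choose_spec

theorem id_appLE {X : Scheme.{u}} {V V' : X.Opens} (e : V' ≤ V) :
    Scheme.Hom.appLE (𝟙 X) V V' e = X.presheaf.map (homOfLE e).op := by
  rw [Scheme.Hom.appLE, Scheme.Hom.id_app]
  exact Category.id_comp _

variable {g : Z ⟶ U} {i : Y ⟶ U} {j : Z' ⟶ Z} {g' : Z' ⟶ Y}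

theorem tr_baseChange (h : IsPullback j g' g i) [IsFinite g] [Etale g] [IsFinite g'] [Etale g']
    {V : U.Opens} {V' : Y.Opens} (hV : IsAffineOpen V) (hV' : IsAffineOpen V') (e : V' ≤ i ⁻¹ᵁ V)
    (x : Γ(Z, g ⁻¹ᵁ V)) :
    tr g' hV' (j.appLE (g ⁻¹ᵁ V) (g' ⁻¹ᵁ V') (preimage_le h.w V V' e) x) =
      i.appLE V V' e (tr g hV x) :=
  RTr.baseChange (isPushout_appLE h hV hV' e).flip (rTr_tr g hV) (rTr_tr g' hV') x

theorem tr_res (g : Z ⟶ U) [IsFinite g] [Etale g] {V V' : U.Opens} (hV : IsAffineOpen V)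
    (hV' : IsAffineOpen V') (e : V' ≤ V) (x : Γ(Z, g ⁻¹ᵁ V)) :
    tr g hV' (Z.presheaf.map (homOfLE (g.preimage_mono e)).op x) =
      U.presheaf.map (homOfLE e).op (tr g hV x) := by
  have h : IsPullback (𝟙 Z) g g (𝟙 U) := IsPullback.of_id_fst
  have := tr_baseChange h hV hV' e x
  rw [id_appLE, id_appLE] at this
  exact this

theorem tr_ext' (h : IsPullback j g' g i) [IsAffineHom g] [IsFinite g'] [Etale g']
    {V : U.Opens} {V' : Y.Opens} (hV : IsAffineOpen V) (hV' : IsAffineOpen V') (e : V' ≤ i ⁻¹ᵁ V)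
    {s t : Γ(Z', g' ⁻¹ᵁ V')}
    (H : ∀ x : Γ(Z, g ⁻¹ᵁ V),
      tr g' hV' (s * j.appLE (g ⁻¹ᵁ V) (g' ⁻¹ᵁ V') (preimage_le h.w V V' e) x) =
      tr g' hV' (t * j.appLE (g ⁻¹ᵁ V) (g' ⁻¹ᵁ V') (preimage_le h.w V V' e) x)) : s = t :=
  RTr.ext (isPushout_appLE h hV hV' e).flip (rTr_tr g' hV') H

theorem tr_ext_res (g : Z ⟶ U) [IsFinite g] [Etale g] {V V' : U.Opens} (hV : IsAffineOpen V)
    (hV' : IsAffineOpen V') (e : V' ≤ V) {s t : Γ(Z, g ⁻¹ᵁ V')}
    (H : ∀ x : Γ(Z, g ⁻¹ᵁ V),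
      tr g hV' (s * Z.presheaf.map (homOfLE (g.preimage_mono e)).op x) =
      tr g hV' (t * Z.presheaf.map (homOfLE (g.preimage_mono e)).op x)) : s = t := by
  have h : IsPullback (𝟙 Z) g g (𝟙 U) := IsPullback.of_id_fst
  refine tr_ext' h hV hV' e fun x => ?_
  rw [id_appLE]
  exact H x

end Trace

section Square

variable {U Z : Scheme.{u}} (g : Z ⟶ U)

theorem exists_sq (I : U.IdealSheafData) (K : Z.IdealSheafData) (hK : K = I.comap g) :
    ∃ g' : K.subscheme ⟶ I.subscheme, IsPullback K.subschemeι g' g I.subschemeι := by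
  subst hK
  refine ⟨(I.comapIso g).hom ≫ pullback.snd _ _, ?_⟩
  refine IsPullback.of_iso_pullback ⟨?_⟩ (I.comapIso g) ?_ rfl
  · rw [Category.assoc, ← pullback.condition, Scheme.IdealSheafData.comapIso_hom_fst_assoc]
  · exact Scheme.IdealSheafData.comapIso_hom_fst _ _

variable {g}

theorem sq_inclusion {I J : U.IdealSheafData} {K L : Z.IdealSheafData} (hIJ : I ≤ J) (hKL : K ≤ L)
    {gK : K.subscheme ⟶ I.subscheme} {gL : L.subscheme ⟶ J.subscheme}
    (hK : IsPullback K.subschemeι gK g I.subschemeι)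
    (hL : IsPullback L.subschemeι gL g J.subschemeι) :
    IsPullback (Scheme.IdealSheafData.inclusion hKL) gL gK (Scheme.IdealSheafData.inclusion hIJ) := by
  have hL' : IsPullback (Scheme.IdealSheafData.inclusion hKL ≫ K.subschemeι) gL g
      (Scheme.IdealSheafData.inclusion hIJ ≫ I.subschemeι) := by
    rwa [Scheme.IdealSheafData.inclusion_subschemeι, Scheme.IdealSheafData.inclusion_subschemeι]
  refine IsPullback.of_right hL' ?_ hK
  rw [← cancel_mono I.subschemeι, Category.assoc, Category.assoc,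
    Scheme.IdealSheafData.inclusion_subschemeι, ← hK.w,
    Scheme.IdealSheafData.inclusion_subschemeι_assoc, hL.w]

end Square

section Phi

variable {U Z Y Z' : Scheme.{u}}

/-- The direct image of the structure sheaf. -/
noncomputable abbrev pushO (g : Z ⟶ U) : U.Modules :=
  (Scheme.Modules.pushforward g).obj (Coh.structureModule Z)

theorem smul_pushO (g : Z ⟶ U) (V : U.Opens) (r : Γ(U, V)) (x : Γ(Z, g ⁻¹ᵁ V)) :
    (r • (show Γ(pushO g, V) from x)) = (show Γ(pushO g, V) from (g.app V r * x)) := rfl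

theorem map_pushO (g : Z ⟶ U) {V V' : U.Opens} (e : V' ≤ V) (x : Γ(Z, g ⁻¹ᵁ V)) :
    (pushO g).presheaf.map (homOfLE e).op (show Γ(pushO g, V) from x) =
      (show Γ(pushO g, V') from (Z.presheaf.map (homOfLE (g.preimage_mono e)).op x)) := rfl

/-- restriction of a global function -/
noncomputable abbrev rT {X : Scheme.{u}} (V : X.Opens) (t : Γ(X, ⊤)) : Γ(X, V) :=
  X.presheaf.map (homOfLE le_top).op t

variable {g : Z ⟶ U} {i : Y ⟶ U} {j : Z' ⟶ Z} {g' : Z' ⟶ Y}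

/-- the local formula of the morphism attached to a global function on `Z'` -/
noncomputable def phi (h : IsPullback j g' g i) [IsFinite g'] [Etale g'] [IsAffineHom i]
    (t : Γ(Z', ⊤)) (V : U.affineOpens) (x : Γ(Z, g ⁻¹ᵁ V.1)) : Γ(Y, i ⁻¹ᵁ V.1) :=
  tr g' (V.2.preimage i) (rT (g' ⁻¹ᵁ (i ⁻¹ᵁ V.1)) t *
    j.appLE (g ⁻¹ᵁ V.1) (g' ⁻¹ᵁ (i ⁻¹ᵁ V.1)) (preimage_le h.w V.1 _ le_rfl) x)

theorem phi_add (h : IsPullback j g' g i) [IsFinite g'] [Etale g'] [IsAffineHom i]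
    (t : Γ(Z', ⊤)) (V : U.affineOpens) (x y : Γ(Z, g ⁻¹ᵁ V.1)) :
    phi h t V (x + y) = phi h t V x + phi h t V y := by
  rw [phi, map_add, mul_add, (rTr_tr g' _).map_add]
  rfl

theorem phi_smul (h : IsPullback j g' g i) [IsFinite g'] [Etale g'] [IsAffineHom i]
    (t : Γ(Z', ⊤)) (V : U.affineOpens) (r : Γ(U, V.1)) (x : Γ(Z, g ⁻¹ᵁ V.1)) :
    phi h t V (g.app V.1 r * x) = i.app V.1 r * phi h t V x := by
  have e1 : j.appLE (g ⁻¹ᵁ V.1) (g' ⁻¹ᵁ (i ⁻¹ᵁ V.1)) (preimage_le h.w V.1 _ le_rfl) (g.app V.1 r) =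
      g'.appLE (i ⁻¹ᵁ V.1) (g' ⁻¹ᵁ (i ⁻¹ᵁ V.1)) le_rfl (i.app V.1 r) := by
    rw [Scheme.Hom.app_eq_appLE, Scheme.Hom.app_eq_appLE]
    have h1 := Scheme.Hom.appLE_comp_appLE j g V.1 (g ⁻¹ᵁ V.1) (g' ⁻¹ᵁ (i ⁻¹ᵁ V.1)) le_rfl
      (preimage_le h.w V.1 _ le_rfl)
    have h2 := Scheme.Hom.appLE_comp_appLE g' i V.1 (i ⁻¹ᵁ V.1) (g' ⁻¹ᵁ (i ⁻¹ᵁ V.1)) le_rfl le_rfl
    rw [← ConcreteCategory.comp_apply, ← ConcreteCategory.comp_apply, h1, h2]
    congr 2
    simp only [h.w]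
  rw [phi, map_mul, e1, mul_left_comm, (rTr_tr g' _).map_mul]
  rfl

theorem phi_res (h : IsPullback j g' g i) [IsFinite g'] [Etale g'] [IsAffineHom i]
    (t : Γ(Z', ⊤)) (V V' : U.affineOpens) (e : V'.1 ≤ V.1) (x : Γ(Z, g ⁻¹ᵁ V.1)) :
    phi h t V' (Z.presheaf.map (homOfLE (g.preimage_mono e)).op x) =
      Y.presheaf.map (homOfLE (i.preimage_mono e)).op (phi h t V x) := by
  rw [phi, phi, ← tr_res g' (V.2.preimage i) (V'.2.preimage i) (i.preimage_mono e), map_mul]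
  congr 2
  · rw [← ConcreteCategory.comp_apply, ← Functor.map_comp]
    rfl
  · rw [← ConcreteCategory.comp_apply, ← ConcreteCategory.comp_apply, Scheme.Hom.map_appLE,
      Scheme.Hom.appLE_map]

theorem exists_Phi (h : IsPullback j g' g i) [IsFinite g'] [Etale g'] [IsAffineHom i]
    (t : Γ(Z', ⊤)) : ∃ Φ : pushO g ⟶ pushO i, ∀ (V : U.affineOpens) (x : Γ(Z, g ⁻¹ᵁ V.1)),
      Φ.app V.1 (show Γ(pushO g, V.1) from x) = (show Γ(pushO i, V.1) from phi h t V x) :=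
  exists_hom_affine (pushO g) (pushO i) (fun V x => phi h t V x)
    (fun V x y => phi_add h t V x y) (fun V r x => phi_smul h t V r x)
    (fun V V' e x => phi_res h t V V' e x)

theorem phi_injective (h : IsPullback j g' g i) [IsAffineHom g] [IsFinite g'] [Etale g']
    [IsAffineHom i] {s t : Γ(Z', ⊤)} (H : ∀ (V : U.affineOpens) (x : Γ(Z, g ⁻¹ᵁ V.1)),
      phi h s V x = phi h t V x) : s = t := by
  refine sec_ext_affine (pushO (g' ≫ i)) ⊤ fun V => ?_
  exact tr_ext' h V.1.2 (V.1.2.preimage i) le_rfl fun x => H V.1 x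

theorem appLE_rT {A B : Scheme.{u}} (f : A ⟶ B) (V : B.Opens) (W : A.Opens) (e : W ≤ f ⁻¹ᵁ V)
    (t : Γ(B, ⊤)) : f.appLE V W e (rT V t) = rT W (f.appTop t) := by
  rw [← ConcreteCategory.comp_apply, Scheme.Hom.map_appLE, Scheme.Hom.appTop]
  change _ = (f.app ⊤ ≫ A.presheaf.map (homOfLE le_top).op) t
  rw [Scheme.Hom.app_eq_appLE, Scheme.Hom.appLE_map]

theorem appLE_appLE {A B C : Scheme.{u}} (f : A ⟶ B) (g : B ⟶ C) (k : A ⟶ C) (hk : f ≫ g = k)
    (V : C.Opens) (W : B.Opens) (Q : A.Opens) (e₁ : W ≤ g ⁻¹ᵁ V) (e₂ : Q ≤ f ⁻¹ᵁ W)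
    (e : Q ≤ k ⁻¹ᵁ V) (x : Γ(C, V)) :
    f.appLE W Q e₂ (g.appLE V W e₁ x) = k.appLE V Q e x := by
  subst hk
  rw [← ConcreteCategory.comp_apply, Scheme.Hom.appLE_comp_appLE]

theorem phi_baseChange (h : IsPullback j g' g i) [IsFinite g'] [Etale g'] [IsAffineHom i]
    {Y₂ Z₂ : Scheme.{u}} {i₂ : Y₂ ⟶ U} {j₂ : Z₂ ⟶ Z} {g₂ : Z₂ ⟶ Y₂}
    (h₂ : IsPullback j₂ g₂ g i₂) [IsFinite g₂] [Etale g₂] [IsAffineHom i₂]
    {c : Y₂ ⟶ Y} {d : Z₂ ⟶ Z'} (hd : IsPullback d g₂ g' c) (hdj : d ≫ j = j₂)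
    (V : U.affineOpens) (e : i₂ ⁻¹ᵁ V.1 ≤ c ⁻¹ᵁ (i ⁻¹ᵁ V.1)) (t : Γ(Z', ⊤))
    (x : Γ(Z, g ⁻¹ᵁ V.1)) :
    c.appLE (i ⁻¹ᵁ V.1) (i₂ ⁻¹ᵁ V.1) e (phi h t V x) = phi h₂ (d.appTop t) V x := by
  rw [phi, phi, ← tr_baseChange hd (V.2.preimage i) (V.2.preimage i₂) e, map_mul, appLE_rT,
    appLE_appLE d j j₂ hdj]

theorem app_tr (h : IsPullback j g' g i) [IsFinite g] [Etale g] [IsFinite g'] [Etale g']
    [IsAffineHom i] (V : U.affineOpens) (t : Γ(Z, ⊤)) (x : Γ(Z, g ⁻¹ᵁ V.1)) :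
    i.app V.1 (tr g V.2 (rT (g ⁻¹ᵁ V.1) t * x)) = phi h (j.appTop t) V x := by
  rw [phi, Scheme.Hom.app_eq_appLE, ← tr_baseChange h V.2 (V.2.preimage i) le_rfl, map_mul,
    appLE_rT]

end Phi

section Ident

variable {U Z : Scheme.{u}} (g : Z ⟶ U) [IsFinite g] [Etale g]

theorem exists_Psi (t : Γ(Z, ⊤)) :
    ∃ Φ : pushO g ⟶ Coh.structureModule U, ∀ (V : U.affineOpens) (x : Γ(Z, g ⁻¹ᵁ V.1)),
      Φ.app V.1 (show Γ(pushO g, V.1) from x) =
        (show Γ(Coh.structureModule U, V.1) from tr g V.2 (rT (g ⁻¹ᵁ V.1) t * x)) := by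
  refine exists_hom_affine (pushO g) (Coh.structureModule U)
    (fun V x => tr g V.2 (rT (g ⁻¹ᵁ V.1) t * (show Γ(Z, g ⁻¹ᵁ V.1) from x))) ?_ ?_ ?_
  · intro V x y
    exact (congrArg (tr g V.2) (mul_add _ _ _)).trans ((rTr_tr g V.2).map_add _ _)
  · intro V r x
    refine (congrArg (tr g V.2) (mul_left_comm (rT (g ⁻¹ᵁ V.1) t) (g.app V.1 r)
      (show Γ(Z, g ⁻¹ᵁ V.1) from x))).trans ?_
    rw [Scheme.Hom.app_eq_appLE]
    exact (rTr_tr g V.2).map_mul _ _
  · intro V V' e x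
    refine Eq.trans ?_ (tr_res g V.2 V'.2 e (rT (g ⁻¹ᵁ V.1) t * (show Γ(Z, g ⁻¹ᵁ V.1) from x)))
    congr 1
    rw [map_mul]
    congr 1
    rw [← ConcreteCategory.comp_apply, ← Functor.map_comp]
    rfl

theorem tr_ext {V : U.Opens} (hV : IsAffineOpen V) {s t : Γ(Z, g ⁻¹ᵁ V)}
    (h : ∀ x, tr g hV (s * x) = tr g hV (t * x)) : s = t :=
  RTr.ext (α := 𝟙 _) (β := 𝟙 _) (φ := g.appLE V (g ⁻¹ᵁ V) le_rfl) (IsPushout.of_vert_isIso ⟨by simp⟩) (rTr_tr g hV) h

theorem exists_of_hom (Φ : pushO g ⟶ Coh.structureModule U) :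
    ∃ t : Γ(Z, ⊤), ∀ (V : U.affineOpens) (x : Γ(Z, g ⁻¹ᵁ V.1)),
      Φ.app V.1 (show Γ(pushO g, V.1) from x) =
        (show Γ(Coh.structureModule U, V.1) from tr g V.2 (rT (g ⁻¹ᵁ V.1) t * x)) := by
  have key : ∀ V : U.affineOpens, ∃ t : Γ(Z, g ⁻¹ᵁ V.1), ∀ x : Γ(Z, g ⁻¹ᵁ V.1),
      Φ.app V.1 (show Γ(pushO g, V.1) from x) =
        (show Γ(Coh.structureModule U, V.1) from tr g V.2 (t * x)) := by
    intro V
    refine RTr.exists_repr (α := 𝟙 _) (β := 𝟙 _) (φ := g.appLE V.1 (g ⁻¹ᵁ V.1) le_rfl)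
      (IsPushout.of_vert_isIso ⟨by simp⟩) (rTr_tr g V.2) (Φ.app V.1).hom ?_
    intro a b
    rw [← Scheme.Hom.app_eq_appLE]
    exact Scheme.Modules.Hom.app_smul Φ a (show Γ(pushO g, V.1) from b)
  choose t ht using key
  obtain ⟨s, hs⟩ := exists_glue_affine (pushO g) ⊤ (fun V => t V.1) (by
    intro V V' e
    refine tr_ext_res g V.1.2 V'.1.2 e fun x => ?_
    have h1 := tr_res g V.1.2 V'.1.2 e (t V.1 * x)
    rw [map_mul] at h1
    refine h1.trans ?_
    refine Eq.trans ?_ (ht V'.1 (Z.presheaf.map (homOfLE (g.preimage_mono e)).op x))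
    refine (congrArg _ (ht V.1 x).symm).trans ?_
    exact (Groth.Agent.CohqB.HomSheaf.app_map Φ e (show Γ(pushO g, V.1.1) from x)).symm)
  refine ⟨s, fun V x => ?_⟩
  rw [ht]
  exact congrArg (fun q => tr g V.2 (q * x)) (hs ⟨V, le_top⟩).symm

end Ident

section Gamma

open Groth.Agent.Sga2.LefBasic

variable {U Z : Scheme.{u}} (g : Z ⟶ U) [IsFinite g] [Etale g]

theorem gammaComplete_comap (J : U.IdealSheafData)
    (H : Lef.HomToFormalBijective J (pushO g)) : GammaComplete (J.comap g) := by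
  have hK : ∀ n : ℕ, (J.comap g) ^ (n + 1) = (J ^ (n + 1)).comap g := fun n =>
    (Groth.Agent.Divis.IdealComap.comap_pow J g (n + 1)).symm
  choose gn hgn using fun n : ℕ => exists_sq g (J ^ (n + 1)) ((J.comap g) ^ (n + 1)) (hK n)
  have hfin : ∀ n, IsFinite (gn n) := fun n =>
    MorphismProperty.of_isPullback (P := @IsFinite) (hgn n) inferInstance
  have het : ∀ n, Etale (gn n) := fun n =>
    MorphismProperty.of_isPullback (P := @Etale) (hgn n) inferInstance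
  have hsq : ∀ n, IsPullback (Scheme.IdealSheafData.inclusion (Lef.pow_succ_le (J.comap g) n))
      (gn n) (gn (n + 1)) (Scheme.IdealSheafData.inclusion (Lef.pow_succ_le J n)) := fun n =>
    sq_inclusion _ _ (hgn (n + 1)) (hgn n)
  constructor
  · intro s t hst
    obtain ⟨Φ, hΦ⟩ := exists_Psi g s
    obtain ⟨Ψ, hΨ⟩ := exists_Psi g t
    have h1 : Φ = Ψ := by
      refine H.1 Φ Ψ fun n => hom_ext_affine fun V x => ?_
      rw [Scheme.Modules.Hom.comp_app, Scheme.Modules.Hom.comp_app, ConcreteCategory.comp_apply,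
        ConcreteCategory.comp_apply, hΦ, hΨ, toSubscheme_app, toSubscheme_app]
      refine (app_tr (hgn n) V s x).trans (Eq.trans ?_ (app_tr (hgn n) V t x).symm)
      rw [hst n]
    subst h1
    refine sec_ext_affine (pushO g) ⊤ fun V => ?_
    exact tr_ext g V.1.2 fun x => (hΦ V.1 x).symm.trans (hΨ V.1 x)
  · intro y hy
    choose Ψ hΨ using fun n => exists_Phi (hgn n) (y n)
    obtain ⟨Φ, hΦ⟩ := H.2 Ψ (by
      intro n
      refine hom_ext_affine fun V x => ?_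
      rw [Scheme.Modules.Hom.comp_app, ConcreteCategory.comp_apply, hΨ, hΨ]
      refine (quotMap_app _ _ _ _ _).trans ?_
      refine (phi_baseChange (hgn (n + 1)) (hgn n) (hsq n)
        (Scheme.IdealSheafData.inclusion_subschemeι _) V _ (y (n + 1)) x).trans ?_
      rw [hy n])
    obtain ⟨t, ht⟩ := exists_of_hom g Φ
    refine ⟨t, fun n => ?_⟩
    refine phi_injective (hgn n) fun V x => ?_
    rw [← app_tr (hgn n) V t x]
    have h1 := congr($(hΦ n).app V.1 (show Γ(pushO g, V.1) from x))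
    rw [Scheme.Modules.Hom.comp_app, ConcreteCategory.comp_apply, hΨ, ht] at h1
    exact h1

end Gamma

section Main

open Groth.Agent.Sga2.LefBasic Groth.Agent.Sga2.LefClopen

variable {U Z : Scheme.{u}} (g : Z ⟶ U)

theorem range_pullback_fst (J : U.IdealSheafData) :
    Set.range (pullback.fst g J.subschemeι) = ((J.comap g).support : Set Z) := by
  rw [← Scheme.IdealSheafData.range_subschemeι]
  ext x
  constructor
  · rintro ⟨y, rfl⟩
    refine ⟨(J.comapIso g).inv y, ?_⟩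
    rw [← Scheme.Hom.comp_apply, Scheme.IdealSheafData.comapIso_inv_subschemeι]
  · rintro ⟨y, rfl⟩
    refine ⟨(J.comapIso g).hom y, ?_⟩
    rw [← Scheme.Hom.comp_apply, Scheme.IdealSheafData.comapIso_hom_fst]

theorem isFinLocFree_pushO [IsFinite g] [Etale g] : FlatMod.IsFinLocFree (pushO g) := by
  exact Groth.Agent.PerfB.PushFLF.isFinLocFree_pushforward g
    (isFinLocFree_structureModule Z)

theorem exists_clopen (J : U.IdealSheafData) (H : GammaComplete (J.comap g))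
    (V : Set ↥(pullback g J.subschemeι)) (hV : IsClopen V) :
    ∃ T : Set Z, IsClopen T ∧ pullback.fst g J.subschemeι ⁻¹' T = V := by
  have hr := range_pullback_fst g J
  let q : ↥(pullback g J.subschemeι) → ((J.comap g).support : Set Z) :=
    fun x => ⟨pullback.fst g J.subschemeι x, by rw [← hr]; exact ⟨x, rfl⟩⟩
  have hemb := (pullback.fst g J.subschemeι).isClosedEmbedding
  have hqc : ∀ s : Set ↥(pullback g J.subschemeι), IsClosed s → IsClosed (q '' s) := by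
    intro s hs
    have : q '' s = Subtype.val ⁻¹' (pullback.fst g J.subschemeι '' s) := by
      ext ⟨x, hx⟩
      simp [q]
    rw [this]
    exact (hemb.isClosedMap s hs).preimage continuous_subtype_val
  have hqb : Function.Bijective q := by
    refine ⟨fun x y hxy => hemb.injective (congrArg Subtype.val hxy), ?_⟩
    rintro ⟨x, hx⟩
    rw [← hr] at hx
    obtain ⟨y, rfl⟩ := hx
    exact ⟨y, rfl⟩
  have hcl : IsClopen (q '' V) := by
    refine ⟨hqc V hV.isClosed, ?_⟩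
    rw [← isClosed_compl_iff, ← Set.image_compl_eq hqb]
    exact hqc _ hV.compl.isClosed
  obtain ⟨T, hT, hT'⟩ := exists_clopen_of_gammaComplete (J.comap g) H (q '' V) hcl
  refine ⟨T, hT, ?_⟩
  have : pullback.fst g J.subschemeι ⁻¹' T = q ⁻¹' (Subtype.val ⁻¹' T) := rfl
  rw [this, hT', Set.preimage_image_eq _ hqb.injective]

/-- **SGA 2 X 2.5, local form.** -/
theorem restrict_fullyFaithful {U : Scheme.{u}} (J : U.IdealSheafData)
    (H : ∀ D : U.Modules, FlatMod.IsFinLocFree D → Lef.HomToFormalBijective J D) :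
    (FEt.restrict J.subschemeι).Full ∧ (FEt.restrict J.subschemeι).Faithful := by
  refine Groth.Agent.Pi1A.ClopenCrit.restrict_fullyFaithful_of_isClopen _ ?_ ?_
  · intro T V hV h0
    haveI : IsFinite T.hom := T.prop.1
    haveI : Etale T.hom := T.prop.2
    refine clopen_eq_empty_of_gammaComplete (J.comap T.hom)
      (gammaComplete_comap T.hom J (H _ (isFinLocFree_pushO T.hom))) V hV ?_
    intro x hx hx'
    have : x ∈ Set.range (pullback.fst T.hom J.subschemeι) := by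
      rw [range_pullback_fst]
      exact hx'
    obtain ⟨y, rfl⟩ := this
    have h1 : y ∈ pullback.fst T.hom J.subschemeι ⁻¹' V := hx
    rw [h0] at h1
    exact h1
  · intro T V hV
    haveI : IsFinite T.hom := T.prop.1
    haveI : Etale T.hom := T.prop.2
    exact exists_clopen T.hom J (gammaComplete_comap T.hom J (H _ (isFinLocFree_pushO T.hom))) V hV

end Main

end Groth.Agent.Fdesc.LefEt
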