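import Mathlib.RingTheory.Spectrum.Prime.ConstructibleSet
import Mathlib.RingTheory.FiniteType
import Mathlib.RingTheory.Flat.Basic
import Mathlib.RingTheory.TensorProduct.Basic

/-!
# Constructible sets missed by the localization at a prime: descent to a finitely generated subalgebra

`A₁ → T` flat, `A` an `A₁`-algebra, `p'` a prime of `A ⊗ T` and `E ⊆ Spec T` constructible such that no
generization of `p'` maps into `E`. Then the same holds for some finitely generated subalgebra `A₂` of `A`, and even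
for all factorizations `A₂ → C → A`.
-/

set_option autoImplicit false
universe u

namespace Groth.Agent.Fdesc.PureLim

open TensorProduct Topology

variable {A₁ T A : Type u} [CommRing A₁] [CommRing T] [CommRing A] [Algebra A₁ T] [Algebra A₁ A]

/-- the map `C ⊗ T → A ⊗ T` attached to `C → A` -/
noncomputable abbrev mapT (T : Type u) [CommRing T] [Algebra A₁ T] {C A : Type u} [CommRing C] [CommRing A] [Algebra A₁ C]
    [Algebra A₁ A] (v : C →ₐ[A₁] A) : C ⊗[A₁] T →ₐ[A₁] A ⊗[A₁] T :=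
  Algebra.TensorProduct.map v (AlgHom.id A₁ T)

theorem mapT_comp {C C' : Type u} [CommRing C] [CommRing C'] [Algebra A₁ C] [Algebra A₁ C'] (u : C →ₐ[A₁] C')
    (v : C' →ₐ[A₁] A) (x : C ⊗[A₁] T) : mapT T v (mapT T u x) = mapT T (v.comp u) x := by
  rw [← AlgHom.comp_apply, ← Algebra.TensorProduct.map_comp, AlgHom.comp_id]

theorem mapT_injective [Module.Flat A₁ T] {C : Type u} [CommRing C] [Algebra A₁ C] (v : C →ₐ[A₁] A)
    (hv : Function.Injective v) : Function.Injective (mapT T v) :=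
  Module.Flat.rTensor_preserves_injective_linearMap (M := T) v.toLinearMap hv

/-- every element of `A ⊗ T` comes from `A₂ ⊗ T` with `A₂` finitely generated -/
theorem exists_fg_lift (x : A ⊗[A₁] T) : ∃ A₂ : Subalgebra A₁ A, A₂.FG ∧ ∃ y : A₂ ⊗[A₁] T, mapT T A₂.val y = x := by
  induction x with
  | zero => exact ⟨⊥, Subalgebra.fg_bot, 0, map_zero _⟩
  | tmul a t =>
    refine ⟨Algebra.adjoin A₁ {a}, ⟨{a}, by simp⟩,
      (⟨a, Algebra.subset_adjoin rfl⟩ : Algebra.adjoin A₁ {a}) ⊗ₜ t, ?_⟩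
    simp
  | add x y hx hy =>
    obtain ⟨A₂, h₂, x', hx'⟩ := hx
    obtain ⟨A₃, h₃, y', hy'⟩ := hy
    refine ⟨A₂ ⊔ A₃, h₂.sup h₃, mapT T (Subalgebra.inclusion le_sup_left) x' +
      mapT T (Subalgebra.inclusion le_sup_right) y', ?_⟩
    rw [map_add, mapT_comp, mapT_comp]
    rw [← hx', ← hy']
    rfl

theorem exists_fg_lift_fin {n : ℕ} (x : Fin n → A ⊗[A₁] T) : ∃ A₂ : Subalgebra A₁ A, A₂.FG ∧
    ∀ i, ∃ y : A₂ ⊗[A₁] T, mapT T A₂.val y = x i := by
  choose A₂ h₂ y hy using fun i => exists_fg_lift (x i)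
  refine ⟨⨆ i, A₂ i, ?_, fun i => ⟨mapT T (Subalgebra.inclusion (le_iSup A₂ i)) (y i), ?_⟩⟩
  · rw [← Finset.sup_univ_eq_iSup]
    exact Finset.sup_induction Subalgebra.fg_bot (fun _ h _ h' => h.sup h') (fun i _ => h₂ i)
  · rw [mapT_comp]
    exact hy i

/-- the basic case -/
theorem exists_fg_basic [Module.Flat A₁ T] (p' : Ideal (A ⊗[A₁] T)) [p'.IsPrime]
    (E : PrimeSpectrum.BasicConstructibleSetData T)
    (h : ∀ (t' : PrimeSpectrum (A ⊗[A₁] T)), t'.asIdeal ≤ p' →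
      PrimeSpectrum.comap (Algebra.TensorProduct.includeRight : T →ₐ[A₁] A ⊗[A₁] T).toRingHom t' ∉ E.toSet) :
    ∃ A₂ : Subalgebra A₁ A, A₂.FG ∧ ∀ (C : Type u) [CommRing C] [Algebra A₁ C] (u : A₂ →ₐ[A₁] C) (v : C →ₐ[A₁] A),
      v.comp u = A₂.val → ∀ (t' : PrimeSpectrum (C ⊗[A₁] T)), t'.asIdeal ≤ p'.comap (mapT T v) →
        PrimeSpectrum.comap (Algebra.TensorProduct.includeRight : T →ₐ[A₁] C ⊗[A₁] T).toRingHom t' ∉ E.toSet := by
  let inc : T →ₐ[A₁] A ⊗[A₁] T := Algebra.TensorProduct.includeRight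
  obtain ⟨s, hs, n, hsn⟩ : ∃ s ∉ p', ∃ n : ℕ, s * (inc E.f) ^ n ∈ Ideal.span (Set.range (fun i => inc (E.g i))) := by
    by_contra hcon
    push Not at hcon
    let M : Submonoid (A ⊗[A₁] T) := p'.primeCompl ⊔ Submonoid.powers (inc E.f)
    have hdisj : Disjoint (Ideal.span (Set.range (fun i => inc (E.g i))) : Set (A ⊗[A₁] T)) (M : Set (A ⊗[A₁] T)) := by
      rw [Set.disjoint_left]
      intro x hx hxM
      obtain ⟨s, hs, y, ⟨n, rfl⟩, rfl⟩ := Submonoid.mem_sup.mp hxM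
      exact hcon s hs n hx
    obtain ⟨t', ht', hle, hd⟩ := Ideal.exists_le_prime_disjoint _ _ hdisj
    refine h ⟨t', ht'⟩ ?_ ?_
    · intro x hx
      by_contra hxp
      exact Set.disjoint_left.mp hd hx (Submonoid.mem_sup_left hxp)
    · refine ⟨?_, ?_⟩
      · rw [PrimeSpectrum.mem_zeroLocus, Set.range_subset_iff]
        intro i
        exact hle (Ideal.subset_span ⟨i, rfl⟩)
      · rw [PrimeSpectrum.mem_zeroLocus, Set.singleton_subset_iff]
        intro hf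
        exact Set.disjoint_left.mp hd hf (Submonoid.mem_sup_right (Submonoid.mem_powers _))
  rw [Ideal.mem_span_range_iff_exists_fun] at hsn
  obtain ⟨c, hc⟩ := hsn
  obtain ⟨A₂, h₂, s₂, hs₂⟩ := exists_fg_lift s
  obtain ⟨A₃, h₃, hc₃⟩ := exists_fg_lift_fin c
  choose c₃ hc₃ using hc₃
  refine ⟨A₂ ⊔ A₃, h₂.sup h₃, ?_⟩
  intro C _ _ u v huv t' ht' hmem
  let s₄ : ((A₂ ⊔ A₃ : Subalgebra A₁ A)) ⊗[A₁] T := mapT T (Subalgebra.inclusion le_sup_left) s₂
  let c₄ : Fin E.n → ((A₂ ⊔ A₃ : Subalgebra A₁ A)) ⊗[A₁] T := fun i => mapT T (Subalgebra.inclusion le_sup_right) (c₃ i)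
  have e1 : mapT T (A₂ ⊔ A₃).val s₄ = s := by
    rw [mapT_comp, ← hs₂]; rfl
  have e2 : ∀ i, mapT T (A₂ ⊔ A₃).val (c₄ i) = c i := by
    intro i
    rw [mapT_comp, ← hc₃ i]; rfl
  have e4 : s₄ * ((Algebra.TensorProduct.includeRight : T →ₐ[A₁] _) E.f) ^ n =
      ∑ i, c₄ i * (Algebra.TensorProduct.includeRight : T →ₐ[A₁] _) (E.g i) := by
    apply mapT_injective (A₂ ⊔ A₃).val Subtype.val_injective
    rw [map_mul, map_pow, e1, map_sum]
    simp only [map_mul, e2]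
    have e5 : ∀ t : T, mapT T (A₂ ⊔ A₃).val ((Algebra.TensorProduct.includeRight : T →ₐ[A₁] _) t) = inc t := by
      intro t
      simp [inc]
    simp only [e5]
    exact hc.symm
  have e6 := congrArg (mapT T u) e4
  rw [map_mul, map_pow, map_sum] at e6
  simp only [map_mul] at e6
  have e7 : ∀ t : T, mapT T u ((Algebra.TensorProduct.includeRight : T →ₐ[A₁] _) t) =
      (Algebra.TensorProduct.includeRight : T →ₐ[A₁] C ⊗[A₁] T) t := by
    intro t
    simp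
  simp only [e7] at e6
  have hg : ∀ i, (Algebra.TensorProduct.includeRight : T →ₐ[A₁] C ⊗[A₁] T) (E.g i) ∈ t'.asIdeal := by
    intro i
    exact hmem.1 ⟨i, rfl⟩
  have hf : (Algebra.TensorProduct.includeRight : T →ₐ[A₁] C ⊗[A₁] T) E.f ∉ t'.asIdeal := by
    intro hf
    apply hmem.2
    rw [PrimeSpectrum.mem_zeroLocus, Set.singleton_subset_iff]
    exact hf
  have h5 : mapT T u s₄ * ((Algebra.TensorProduct.includeRight : T →ₐ[A₁] C ⊗[A₁] T) E.f) ^ n ∈ t'.asIdeal := by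
    rw [e6]
    exact sum_mem fun i _ => Ideal.mul_mem_left _ _ (hg i)
  rcases t'.isPrime.mem_or_mem h5 with h6 | h6
  · have h7 := ht' h6
    rw [Ideal.mem_comap, mapT_comp, huv, e1] at h7
    exact hs h7
  · exact hf (t'.isPrime.mem_of_pow_mem _ h6)

/-- the general case -/
theorem exists_fg_constructible [Module.Flat A₁ T] (p' : Ideal (A ⊗[A₁] T)) [p'.IsPrime]
    (E : Set (PrimeSpectrum T)) (hE : IsConstructible E)
    (h : ∀ (t' : PrimeSpectrum (A ⊗[A₁] T)), t'.asIdeal ≤ p' →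
      PrimeSpectrum.comap (Algebra.TensorProduct.includeRight : T →ₐ[A₁] A ⊗[A₁] T).toRingHom t' ∉ E) :
    ∃ A₂ : Subalgebra A₁ A, A₂.FG ∧ ∀ (C : Type u) [CommRing C] [Algebra A₁ C] (u : A₂ →ₐ[A₁] C) (v : C →ₐ[A₁] A),
      v.comp u = A₂.val → ∀ (t' : PrimeSpectrum (C ⊗[A₁] T)), t'.asIdeal ≤ p'.comap (mapT T v) →
        PrimeSpectrum.comap (Algebra.TensorProduct.includeRight : T →ₐ[A₁] C ⊗[A₁] T).toRingHom t' ∉ E := by
  classical
  obtain ⟨S, rfl⟩ := PrimeSpectrum.exists_constructibleSetData_iff.mpr hE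
  have H : ∀ D ∈ S, ∃ A₂ : Subalgebra A₁ A, A₂.FG ∧ ∀ (C : Type u) [CommRing C] [Algebra A₁ C] (u : A₂ →ₐ[A₁] C)
      (v : C →ₐ[A₁] A), v.comp u = A₂.val → ∀ (t' : PrimeSpectrum (C ⊗[A₁] T)), t'.asIdeal ≤ p'.comap (mapT T v) →
        PrimeSpectrum.comap (Algebra.TensorProduct.includeRight : T →ₐ[A₁] C ⊗[A₁] T).toRingHom t' ∉ D.toSet := by
    intro D hD
    apply exists_fg_basic p' D
    intro t' ht' hmem
    exact h t' ht' (Set.mem_biUnion (by exact_mod_cast hD) hmem)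
  choose! A₂ h₂ H using H
  refine ⟨S.sup A₂, Finset.sup_induction Subalgebra.fg_bot (fun _ h _ h' => h.sup h') h₂, ?_⟩
  intro C _ _ u v huv t' ht' hmem
  rw [PrimeSpectrum.ConstructibleSetData.toSet, Set.mem_iUnion₂] at hmem
  obtain ⟨D, hD, hmem⟩ := hmem
  have hle : A₂ D ≤ S.sup A₂ := Finset.le_sup (f := A₂) (by exact_mod_cast hD)
  refine H D (by exact_mod_cast hD) C (u.comp (Subalgebra.inclusion hle)) v ?_ t' ht' hmem
  rw [← AlgHom.comp_assoc, huv]
  rfl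

end Groth.Agent.Fdesc.PureLim
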