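import Groth.Agent.Fdesc.PureLocus
import Groth.Agent.Fdesc.PureLim
import Groth.Agent.Flat2B.CoverProj
import Groth.Agent.Flat2G.ApproxFactor

/-!
# Purity along a fibre descends to a finitely generated subalgebra (Noetherian model)
-/

set_option autoImplicit false
universe u

namespace Groth.Agent.Fdesc.PureDescend

open TensorProduct Topology Groth.Agent.Flat2A.ImpurityBC Groth.Agent.Fdesc.PureLocus Groth.Agent.Fdesc.PureLim
  Groth.Agent.Flat2B.EtaleNhd

attribute [local instance] Algebra.TensorProduct.rightAlgebra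

/-- the data produced by `CoverProj.exists_cover`, rephrased over the étale neighbourhood -/
theorem exists_chart {A₁ B₁ N₁ : Type u} [CommRing A₁] [IsNoetherianRing A₁] [CommRing B₁] [Algebra A₁ B₁]
    [Algebra.FiniteType A₁ B₁] [AddCommGroup N₁] [Module B₁ N₁] [Module A₁ N₁] [IsScalarTower A₁ B₁ N₁]
    [Module.Finite B₁ N₁] (p₁ : Ideal A₁) [p₁.IsPrime]
    (hflat : ∀ (q : Ideal B₁) [q.IsPrime], q.LiesOver p₁ → FlatCA.FlatAt A₁ q N₁) :
    ∃ (T : Type u) (_ : CommRing T) (_ : Algebra A₁ T) (p' : Ideal T) (_ : p'.IsPrime) (_ : FlatCA.IsEtaleNhd A₁ T p₁ p')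
      (S : Type u) (_ : CommRing S) (_ : Algebra (T ⊗[A₁] B₁) S) (_ : Algebra T S) (_ : IsScalarTower T (T ⊗[A₁] B₁) S),
      Algebra.Etale (T ⊗[A₁] B₁) S ∧
      Module.Projective T (S ⊗[T ⊗[A₁] B₁] ((T ⊗[A₁] B₁) ⊗[B₁] N₁)) ∧
      ∀ (P : Ideal (T ⊗[A₁] B₁)) [P.IsPrime], P.comap (algebraMap T (T ⊗[A₁] B₁)) = p' →
        ∃ Q : Ideal S, Q.IsPrime ∧ Q.comap (algebraMap (T ⊗[A₁] B₁) S) = P := by
  have fp1 : Algebra.FinitePresentation A₁ B₁ := (Algebra.FinitePresentation.of_finiteType).mp inferInstance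
  have nB₁ : IsNoetherianRing B₁ := Algebra.FiniteType.isNoetherianRing A₁ B₁
  have fp2 : Module.FinitePresentation B₁ N₁ := Module.finitePresentation_of_finite B₁ N₁
  obtain ⟨T, S, _, _, _, _, _, _, _, _, p', _, h1, h2, h3, h4⟩ := Flat2B.CoverProj.exists_cover N₁ p₁ hflat
  let B := T ⊗[A₁] B₁
  let φ : B →ₐ[A₁] S := Algebra.TensorProduct.lift (IsScalarTower.toAlgHom A₁ T S) (IsScalarTower.toAlgHom A₁ B₁ S)
    (fun _ _ => Commute.all _ _)
  let i1 : Algebra B S := φ.toRingHom.toAlgebra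
  have s1 : IsScalarTower T B S := IsScalarTower.of_algebraMap_eq fun x => by
    change _ = φ (x ⊗ₜ 1)
    rw [Algebra.TensorProduct.lift_tmul, map_one, mul_one]
    rfl
  have s2 : IsScalarTower B₁ B S := IsScalarTower.of_algebraMap_eq fun x => by
    change _ = φ (1 ⊗ₜ x)
    rw [Algebra.TensorProduct.lift_tmul, map_one, one_mul]
    rfl
  have et1 : Algebra.Etale A₁ T := h1.1
  have et2 : Algebra.Etale B₁ B := by
    have := Algebra.Etale.baseChange A₁ T B₁
    exact Algebra.Etale.of_equiv (Algebra.IsPushout.equiv A₁ B₁ T B)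
  have et3 : Algebra.Etale B S := Algebra.Etale.of_restrictScalars B₁ B S
  refine ⟨T, inferInstance, inferInstance, p', inferInstance, h1, S, inferInstance, i1, inferInstance, s1, et3, ?_, ?_⟩
  · let e : S ⊗[B] (B ⊗[B₁] N₁) ≃ₗ[S] S ⊗[B₁] N₁ := AlgebraTensorModule.cancelBaseChange B₁ B S S N₁
    exact Module.Projective.of_equiv (e.restrictScalars T).symm
  · intro P _ hP
    have l0 : p'.LiesOver p₁ := liesOver h1
    have l1 : P.LiesOver p' := ⟨hP.symm⟩
    let q := P.comap (algebraMap B₁ B)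
    have l2 : P.LiesOver q := ⟨rfl⟩
    have l3 : q.LiesOver p₁ := ⟨by
      rw [l0.over, ← hP]
      change Ideal.comap _ (Ideal.comap _ _) = Ideal.comap _ (Ideal.comap _ _)
      rw [Ideal.comap_comap, Ideal.comap_comap, ← IsScalarTower.algebraMap_eq, ← IsScalarTower.algebraMap_eq]⟩
    obtain ⟨Q, hQ, hQ1, hQ2⟩ := h3 q l3
    refine ⟨Q, hQ, ?_⟩
    have l4 : (Q.comap (algebraMap B S)).LiesOver p' := ⟨by
      rw [hQ2.over]
      change Ideal.comap _ _ = Ideal.comap _ (Ideal.comap _ _)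
      rw [Ideal.comap_comap, ← IsScalarTower.algebraMap_eq]⟩
    have l5 : (Q.comap (algebraMap B S)).LiesOver q := ⟨by
      rw [hQ1.over]
      change Ideal.comap _ _ = Ideal.comap _ (Ideal.comap _ _)
      rw [Ideal.comap_comap, ← IsScalarTower.algebraMap_eq]⟩
    exact (resTriv h1).pushout_unique (S := B₁) (S' := B) (q := q)

/-- "no impurity over any elementary étale neighbourhood of `(C, p)`", for the base change to `C` of `(B₁, N₁)` -/
def NoImp (A₁ B₁ N₁ : Type u) [CommRing A₁] [CommRing B₁] [Algebra A₁ B₁] [AddCommGroup N₁] [Module B₁ N₁]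
    (C : Type u) [CommRing C] [Algebra A₁ C] (p : Ideal C) [p.IsPrime] : Prop :=
  ∀ (D : Type u) [CommRing D] [Algebra C D] [Algebra A₁ D] [IsScalarTower A₁ C D] (t' t : Ideal D) [t'.IsPrime]
    [t.IsPrime], FlatCA.IsEtaleNhd C D p t → ¬ Imp A₁ B₁ N₁ D t' t

section

variable {A₁ B₁ N₁ : Type u} [CommRing A₁] [CommRing B₁] [Algebra A₁ B₁] [Algebra.FiniteType A₁ B₁]
  [AddCommGroup N₁] [Module B₁ N₁]

/-- Purity of a model of the base change in terms of `NoImp`. -/
theorem isPureAlong_iff_noImp {C B N : Type u} [CommRing C] [CommRing B] [AddCommGroup N] [Algebra A₁ C] [Algebra A₁ B]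
    [Algebra C B] [Algebra B₁ B] [IsScalarTower A₁ C B] [IsScalarTower A₁ B₁ B] [Module B N] [Module B₁ N]
    [IsScalarTower B₁ B N] (h : Algebra.IsPushout A₁ B₁ C B) (f : N₁ →ₗ[B₁] N) (hf : IsBaseChange B f)
    (p : Ideal C) [p.IsPrime] :
    FlatCA.IsPureAlong C B N p ↔ NoImp A₁ B₁ N₁ C p := by
  have hft : Algebra.FiniteType C B :=
    Algebra.FiniteType.equiv (inferInstance : Algebra.FiniteType C (C ⊗[A₁] B₁))
      (Algebra.IsPushout.equiv A₁ C B₁ B (h := h.symm))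
  rw [isPureAlong_iff]
  constructor
  · intro H D _ _ _ _ t' t _ _ het himp
    refine H D t' t het ?_
    exact (imp_baseChange_iff h f hf t' t).mpr himp
  · intro H D _ _ t' t _ _ het himp
    let i1 : Algebra A₁ D := ((algebraMap C D).comp (algebraMap A₁ C)).toAlgebra
    have s1 : IsScalarTower A₁ C D := IsScalarTower.of_algebraMap_eq fun x => rfl
    exact H D t' t het ((imp_baseChange_iff h f hf t' t).mp himp)

/-- Main descent statement. -/
theorem exists_fg_noImp [IsNoetherianRing A₁] [Module A₁ N₁] [IsScalarTower A₁ B₁ N₁] [Module.Finite B₁ N₁]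
    {A : Type u} [CommRing A] [Algebra A₁ A] (p : Ideal A) [p.IsPrime]
    (hflat : ∀ (q : Ideal B₁) [q.IsPrime], q.LiesOver (p.comap (algebraMap A₁ A)) → FlatCA.FlatAt A₁ q N₁)
    (hpure : NoImp A₁ B₁ N₁ A p) :
    ∃ A₂ : Subalgebra A₁ A, A₂.FG ∧ ∀ (C : Type u) [CommRing C] [Algebra A₁ C] (u : A₂ →ₐ[A₁] C) (v : C →ₐ[A₁] A),
      v.comp u = A₂.val → NoImp A₁ B₁ N₁ C (p.comap v) := by
  obtain ⟨T, _, _, p₁', _, h1, S, _, _, _, _, h2, h3, h4⟩ := exists_chart (N₁ := N₁) (p.comap (algebraMap A₁ A)) hflat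
  have et1 : Algebra.Etale A₁ T := h1.1
  have nT : IsNoetherianRing T := Algebra.FiniteType.isNoetherianRing A₁ T
  let B := T ⊗[A₁] B₁
  let N := B ⊗[B₁] N₁
  have nB : IsNoetherianRing B := Algebra.FiniteType.isNoetherianRing T B
  have po : Algebra.IsPushout A₁ B₁ T B := inferInstance
  let f : N₁ →ₗ[B₁] N := TensorProduct.mk B₁ B N₁ 1
  have hf : IsBaseChange B f := TensorProduct.isBaseChange _ _ _
  -- the étale neighbourhood of `(A, p)`
  have l1 : p.LiesOver (p.comap (algebraMap A₁ A)) := ⟨rfl⟩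
  obtain ⟨p', _, l2, l3, h5, -⟩ := exists_isEtaleNhd_pushout (R := A₁) (R' := T) (S := A) (S' := A ⊗[A₁] T) h1 l1
  have key : ∀ (t' : PrimeSpectrum (A ⊗[A₁] T)), t'.asIdeal ≤ p' →
      Covers T B N S (t'.asIdeal.comap (algebraMap T (A ⊗[A₁] T))) := by
    intro t' ht'
    refine mem_of_not_imp t'.asIdeal p' ht' ?_ ?_
    · intro himp
      exact hpure (A ⊗[A₁] T) t'.asIdeal p' h5 ((imp_baseChange_iff po f hf t'.asIdeal p').mp himp)
    · intro P _ hP
      exact h4 P (by rw [hP]; exact l3.over.symm)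
  -- a constructible subset
  let W : Set (PrimeSpectrum T) := {τ | Covers T B N S τ.asIdeal}
  have hW : ∀ τ ∈ W, ∃ a, a ∉ τ.asIdeal ∧ ∀ σ : PrimeSpectrum T, τ.asIdeal ≤ σ.asIdeal → a ∉ σ.asIdeal → σ ∈ W := by
    intro τ hτ
    obtain ⟨a, ha, H⟩ := exists_forall_covers τ.asIdeal hτ
    exact ⟨a, ha, fun σ hle hσ => H σ.asIdeal hle hσ⟩
  let Λ := Localization.AtPrime p'
  have sT : IsScalarTower T (A ⊗[A₁] T) Λ := inferInstance
  obtain ⟨E, hE, hEW, hEΛ⟩ := Flat2G.ApproxFactor.exists_constructible_between (A := Λ) W hW (by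
    intro q
    have h6 := key (PrimeSpectrum.comap (algebraMap (A ⊗[A₁] T) Λ) q) (by
      intro x hx
      by_contra hxp
      exact q.isPrime.ne_top (Ideal.eq_top_of_isUnit_mem _ hx
        (IsLocalization.map_units Λ (⟨x, hxp⟩ : p'.primeCompl))))
    have h7 : PrimeSpectrum.comap (algebraMap T Λ) q = PrimeSpectrum.comap (algebraMap T (A ⊗[A₁] T))
        (PrimeSpectrum.comap (algebraMap (A ⊗[A₁] T) Λ) q) := by
      rw [← PrimeSpectrum.comap_comp_apply, ← IsScalarTower.algebraMap_eq]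
    rw [h7]
    exact h6)
  obtain ⟨A₂, hA₂, H⟩ := exists_fg_constructible (A₁ := A₁) (T := T) (A := A) p' Eᶜ hE.compl (by
    intro t' ht' hmem
    apply hmem
    have hd : Disjoint (p'.primeCompl : Set (A ⊗[A₁] T)) (t'.asIdeal : Set (A ⊗[A₁] T)) := by
      rw [Set.disjoint_left]
      intro x hx hxt
      exact hx (ht' hxt)
    let q : PrimeSpectrum Λ := ⟨t'.asIdeal.map (algebraMap _ Λ),
      IsLocalization.isPrime_of_isPrime_disjoint p'.primeCompl Λ t'.asIdeal t'.isPrime hd⟩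
    have h8 := hEΛ q
    have h7 : PrimeSpectrum.comap (algebraMap T Λ) q = PrimeSpectrum.comap (algebraMap T (A ⊗[A₁] T))
        (PrimeSpectrum.comap (algebraMap (A ⊗[A₁] T) Λ) q) := by
      rw [← PrimeSpectrum.comap_comp_apply, ← IsScalarTower.algebraMap_eq]
    have h9 : PrimeSpectrum.comap (algebraMap (A ⊗[A₁] T) Λ) q = t' := by
      apply PrimeSpectrum.ext
      exact IsLocalization.under_map_of_isPrime_disjoint p'.primeCompl Λ t'.isPrime hd
    rw [h7, h9] at h8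
    exact h8)
  refine ⟨A₂, hA₂, ?_⟩
  intro C _ _ u v huv D _ _ _ _ t' t _ _ het himp
  have hle := himp.1
  -- the étale neighbourhood of `(C, p_C)`
  let pC : Ideal C := p.comap v
  let pC' : Ideal (C ⊗[A₁] T) := p'.comap (mapT T v)
  have m1 : pC.LiesOver (p.comap (algebraMap A₁ A)) := ⟨by
    ext x
    change algebraMap A₁ A x ∈ p ↔ v (algebraMap A₁ C x) ∈ p
    rw [v.commutes]⟩
  have m2 : pC'.LiesOver pC := ⟨by
    ext x
    change v x ∈ p ↔ mapT T v (algebraMap C (C ⊗[A₁] T) x) ∈ p'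
    rw [l2.over]
    change algebraMap A (A ⊗[A₁] T) (v x) ∈ p' ↔ _
    rw [Algebra.TensorProduct.algebraMap_apply, Algebra.TensorProduct.algebraMap_apply]
    simp⟩
  have m3 : pC'.LiesOver p₁' := ⟨by
    change _ = Ideal.comap _ (Ideal.comap _ _)
    rw [l3.over]
    ext x
    simp [Ideal.mem_comap, Algebra.TensorProduct.right_algebraMap_apply]⟩
  have h6 : FlatCA.IsEtaleNhd C (C ⊗[A₁] T) pC pC' :=
    isEtaleNhd_pushout (R := A₁) (R' := T) (S := C) (S' := C ⊗[A₁] T) h1 m1 pC' m2 m3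
  obtain ⟨R₃, _, _, _, _, _, _, p₃, _, h7, h8, h9⟩ := exists_common_refinement het h6
  have et8 : Algebra.Etale D R₃ := h8.1
  have l8 : p₃.LiesOver t := h8.2.1
  have l9 : p₃.LiesOver pC' := h9.2.1
  obtain ⟨t₃, hle₃, _, l₃⟩ := Ideal.exists_ideal_le_liesOver_of_le (R := D) (S := R₃) (p := t') (q := t) p₃ hle
  let i1 : Algebra A₁ R₃ := ((algebraMap C R₃).comp (algebraMap A₁ C)).toAlgebra
  have s1 : IsScalarTower A₁ C R₃ := IsScalarTower.of_algebraMap_eq fun x => rfl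
  have s2 : IsScalarTower A₁ D R₃ := IsScalarTower.of_algebraMap_eq fun x => by
    rw [IsScalarTower.algebraMap_apply A₁ C R₃, IsScalarTower.algebraMap_apply C D R₃,
      IsScalarTower.algebraMap_apply A₁ C D]
  let i2 : Algebra T R₃ := ((algebraMap (C ⊗[A₁] T) R₃).comp (algebraMap T (C ⊗[A₁] T))).toAlgebra
  have s3 : IsScalarTower T (C ⊗[A₁] T) R₃ := IsScalarTower.of_algebraMap_eq fun x => rfl
  have s4 : IsScalarTower A₁ T R₃ := IsScalarTower.of_algebraMap_eq fun x => by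
    rw [IsScalarTower.algebraMap_apply T (C ⊗[A₁] T) R₃, ← IsScalarTower.algebraMap_apply A₁ T (C ⊗[A₁] T),
      IsScalarTower.algebraMap_apply A₁ C R₃, IsScalarTower.algebraMap_apply A₁ C (C ⊗[A₁] T),
      ← IsScalarTower.algebraMap_apply C (C ⊗[A₁] T) R₃]
  have himp₃ : Imp A₁ B₁ N₁ R₃ t₃ p₃ := himp.lift hle₃
  have himp₄ : Imp T B N R₃ t₃ p₃ := (imp_baseChange_iff po f hf t₃ p₃).mpr himp₃
  refine not_imp_of_covers (S := S) t₃ p₃ ?_ himp₄
  have h10 : t₃.comap (algebraMap (C ⊗[A₁] T) R₃) ≤ pC' := by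
    rw [l9.over]
    exact Ideal.comap_mono hle₃
  have h11 := H C u v huv ⟨t₃.comap (algebraMap (C ⊗[A₁] T) R₃), inferInstance⟩ h10
  rw [Set.notMem_compl_iff] at h11
  have h12 := hEW h11
  exact h12

end

end Groth.Agent.Fdesc.PureDescend
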