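import Groth.Agent.FlatA.GenericFree2
import Mathlib.RingTheory.Flat.Equalizer
import Mathlib.RingTheory.Flat.Stability
import Mathlib.RingTheory.LocalRing.ResidueField.Ideal
import Mathlib.RingTheory.IsTensorProduct
import Mathlib.RingTheory.Ideal.AssociatedPrime.Basic
import Mathlib.RingTheory.Ideal.AssociatedPrime.Finiteness

/-!
# Fibrewise injectivity spreads out along `V(τ)`

`exists_forall_injective`: for a map `ψ` of finite modules over a finite type `T`-algebra and a prime `τ` such that
`ψ ⊗ κ(τ)` is injective there is `a ∉ τ` with `ψ ⊗ κ(τ')` injective for all primes `τ' ⊇ τ` not containing `a`.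

`exists_forall_associatedPrimes`: the set of primes `τ` such that no associated prime of `N ⊗ κ(τ)` contains a given
finitely generated ideal is ind-constructible in the same sense.
-/

set_option autoImplicit false
universe u

namespace Groth.Agent.Fdesc.PureIndCons

open TensorProduct

attribute [local instance] Algebra.TensorProduct.rightAlgebra in
/-- Generic flatness along `V(τ)`. -/
theorem exists_flat {T : Type u} (B N : Type u) [CommRing T] [CommRing B] [Algebra T B] [Algebra.FiniteType T B]
    [AddCommGroup N] [Module B N] [Module T N] [IsScalarTower T B N] [Module.Finite B N] (τ : Ideal T) [τ.IsPrime] :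
    ∃ a ∉ τ, ∀ (L : Type u) [CommRing L] [Algebra T L], (∀ x ∈ τ, algebraMap T L x = 0) →
      IsUnit (algebraMap T L a) → Module.Flat L (L ⊗[T] N) := by
  let D := T ⧸ τ
  let B' := D ⊗[T] B
  let N' := B' ⊗[B] N
  obtain ⟨f, hf, hfree⟩ := Groth.Agent.FlatA.GenericFree.genFree_of_finiteType.{u, u, u} (R := D) B' N'
  obtain ⟨a, rfl⟩ := Ideal.Quotient.mk_surjective f
  refine ⟨a, fun h => hf (Ideal.Quotient.eq_zero_iff_mem.mpr h), ?_⟩
  intro L _ _ hτ ha
  let i1 : Algebra D L := (Ideal.Quotient.lift τ (algebraMap T L) hτ).toAlgebra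
  have s1 : IsScalarTower T D L := IsScalarTower.of_algebraMap_eq fun x => rfl
  let f := Ideal.Quotient.mk τ a
  let Df := Localization.Away f
  have haf : IsUnit (algebraMap D L f) := ha
  let i2 : Algebra Df L := (IsLocalization.Away.lift f haf).toAlgebra
  have s2 : IsScalarTower D Df L := IsScalarTower.of_algebraMap_eq fun x => by
    exact (IsLocalization.Away.lift_eq f haf x).symm
  have h1 : Module.Free Df (Df ⊗[D] N') := hfree.free_tensor Df
  have h2 : Module.Flat L (L ⊗[Df] (Df ⊗[D] N')) := inferInstance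
  let e1 : L ⊗[Df] (Df ⊗[D] N') ≃ₗ[L] L ⊗[D] N' := AlgebraTensorModule.cancelBaseChange D Df L L N'
  let e2 : N' ≃ₗ[D] D ⊗[T] N := Algebra.IsPushout.cancelBaseChange T D B B' N
  let e3 : L ⊗[D] N' ≃ₗ[L] L ⊗[D] (D ⊗[T] N) := AlgebraTensorModule.congr (LinearEquiv.refl L L) e2
  let e4 : L ⊗[D] (D ⊗[T] N) ≃ₗ[L] L ⊗[T] N := AlgebraTensorModule.cancelBaseChange T D L L N
  exact Module.Flat.of_linearEquiv (e1.trans (e3.trans e4)).symm

/-- Injectivity after tensoring with an `L`-algebra `K` can be computed over `T` or over `L`. -/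
theorem injective_iff_baseChange {T L K N N₂ : Type u} [CommRing T] [CommRing L] [CommRing K] [Algebra T L] [Algebra L K]
    [Algebra T K] [IsScalarTower T L K] [AddCommGroup N] [Module T N] [AddCommGroup N₂] [Module T N₂] (ψ : N →ₗ[T] N₂) :
    Function.Injective ((ψ.baseChange L).lTensor K) ↔ Function.Injective (ψ.lTensor K) := by
  let e : K ⊗[L] (L ⊗[T] N) ≃ₗ[K] K ⊗[T] N := AlgebraTensorModule.cancelBaseChange T L K K N
  let e₂ : K ⊗[L] (L ⊗[T] N₂) ≃ₗ[K] K ⊗[T] N₂ := AlgebraTensorModule.cancelBaseChange T L K K N₂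
  have h : ∀ x, e₂ ((ψ.baseChange L).lTensor K x) = ψ.lTensor K (e x) := by
    intro x
    induction x with
    | zero => simp
    | add x y hx hy => simp only [map_add, hx, hy]
    | tmul k y =>
      induction y with
      | zero => simp
      | add x y hx hy => simp only [map_add, tmul_add, hx, hy]
      | tmul l n => simp [e, e₂]
  constructor
  · intro H x y hxy
    apply e.symm.injective
    apply H
    apply e₂.injective
    rw [h, h, e.apply_symm_apply, e.apply_symm_apply, hxy]
  · intro H x y hxy
    apply e.injective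
    apply H
    rw [← h, ← h, hxy]

/-- Fibrewise injectivity spreads out along `V(τ)`. -/
theorem exists_forall_injective {T : Type u} (B : Type u) {N N₂ : Type u} [CommRing T] [CommRing B] [Algebra T B]
    [Algebra.FiniteType T B] [AddCommGroup N] [Module B N] [Module T N] [IsScalarTower T B N] [Module.Finite B N]
    [AddCommGroup N₂] [Module B N₂] [Module T N₂] [IsScalarTower T B N₂] [Module.Finite B N₂] (ψ : N →ₗ[B] N₂)
    (τ : Ideal T) [τ.IsPrime] (h : Function.Injective ((ψ.restrictScalars T).lTensor τ.ResidueField)) :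
    ∃ a ∉ τ, ∀ (τ' : Ideal T) [τ'.IsPrime], τ ≤ τ' → a ∉ τ' →
      Function.Injective ((ψ.restrictScalars T).lTensor τ'.ResidueField) := by
  obtain ⟨a₁, ha₁, h₁⟩ := exists_flat B N τ
  obtain ⟨a₂, ha₂, h₂⟩ := exists_flat B (N₂ ⧸ LinearMap.range ψ) τ
  refine ⟨a₁ * a₂, fun hmem => (Ideal.IsPrime.mem_or_mem inferInstance hmem).elim ha₁ ha₂, ?_⟩
  intro τ' _ hle ha
  let f := Ideal.Quotient.mk τ (a₁ * a₂)
  let L := Localization.Away f
  have s0 : IsScalarTower T (T ⧸ τ) L := inferInstance
  have hτ : ∀ x ∈ τ, algebraMap T L x = 0 := by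
    intro x hx
    rw [IsScalarTower.algebraMap_apply T (T ⧸ τ) L, Ideal.Quotient.algebraMap_eq, Ideal.Quotient.eq_zero_iff_mem.mpr hx,
      map_zero]
  have hu : IsUnit (algebraMap T L (a₁ * a₂)) := by
    rw [IsScalarTower.algebraMap_apply T (T ⧸ τ) L, Ideal.Quotient.algebraMap_eq]
    exact IsLocalization.Away.algebraMap_isUnit f
  rw [map_mul] at hu
  have f₁ : Module.Flat L (L ⊗[T] N) := h₁ L hτ (isUnit_of_mul_isUnit_left hu)
  have f₂ : Module.Flat L (L ⊗[T] (N₂ ⧸ LinearMap.range ψ)) := h₂ L hτ (isUnit_of_mul_isUnit_right hu)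
  -- residue fields as `L`-algebras
  have key : ∀ (σ : Ideal T) [σ.IsPrime], τ ≤ σ → a₁ * a₂ ∉ σ →
      ∃ (_ : Algebra L σ.ResidueField), IsScalarTower T L σ.ResidueField := by
    intro σ _ hσ haσ
    have h0 : ∀ x ∈ τ, algebraMap T σ.ResidueField x = 0 := fun x hx => by
      rw [Ideal.algebraMap_residueField_eq_zero]
      exact hσ hx
    have hu' : IsUnit ((Ideal.Quotient.lift τ (algebraMap T σ.ResidueField) h0) f) := by
      rw [isUnit_iff_ne_zero]
      change algebraMap T σ.ResidueField (a₁ * a₂) ≠ 0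
      rwa [Ne, Ideal.algebraMap_residueField_eq_zero]
    let i : Algebra L σ.ResidueField := (IsLocalization.Away.lift f hu').toAlgebra
    refine ⟨i, IsScalarTower.of_algebraMap_eq fun x => ?_⟩
    change _ = IsLocalization.Away.lift f hu' (algebraMap T L x)
    rw [IsScalarTower.algebraMap_apply T (T ⧸ τ) L, IsLocalization.Away.lift_eq]
    rfl
  obtain ⟨i1, s1⟩ := key τ le_rfl (fun hmem => (Ideal.IsPrime.mem_or_mem inferInstance hmem).elim ha₁ ha₂)
  obtain ⟨i2, s2⟩ := key τ' hle ha
  let ψ' := (ψ.restrictScalars T).baseChange L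
  -- injectivity of `L → κ(τ)`
  have hinjL : Function.Injective (algebraMap L τ.ResidueField) := by
    rw [injective_iff_map_eq_zero]
    intro x hx
    obtain ⟨⟨d, s⟩, hd⟩ := IsLocalization.surj (Submonoid.powers f) x
    obtain ⟨t, rfl⟩ := Ideal.Quotient.mk_surjective d
    have h3 : algebraMap T τ.ResidueField t = 0 := by
      rw [IsScalarTower.algebraMap_apply T L τ.ResidueField, IsScalarTower.algebraMap_apply T (T ⧸ τ) L]
      change algebraMap L τ.ResidueField (algebraMap (T ⧸ τ) L (Ideal.Quotient.mk τ t)) = 0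
      rw [← hd, map_mul, hx, zero_mul]
    rw [Ideal.algebraMap_residueField_eq_zero] at h3
    have h4 : x * algebraMap (T ⧸ τ) L s = 0 := by
      rw [hd]
      change algebraMap (T ⧸ τ) L (Ideal.Quotient.mk τ t) = 0
      rw [Ideal.Quotient.eq_zero_iff_mem.mpr h3, map_zero]
    exact ((IsLocalization.map_units L s).mul_left_eq_zero).mp h4
  have hψ' : Function.Injective ψ' := by
    have e1 : Function.Injective (ψ'.lTensor τ.ResidueField) := (injective_iff_baseChange _).mpr h
    have e2 : Function.Injective (TensorProduct.mk L τ.ResidueField (L ⊗[T] N) 1) := by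
      have : FaithfulSMul L τ.ResidueField := (faithfulSMul_iff_algebraMap_injective _ _).mpr hinjL
      exact Module.Flat.tensorProduct_mk_injective (R := L) (S := τ.ResidueField) (M := L ⊗[T] N)
    intro x y hxy
    apply e2
    apply e1
    rw [TensorProduct.mk_apply, TensorProduct.mk_apply, LinearMap.lTensor_tmul, LinearMap.lTensor_tmul, hxy]
  -- the cokernel is flat
  let π : N₂ →ₗ[T] (N₂ ⧸ LinearMap.range ψ) := (LinearMap.range ψ).mkQ.restrictScalars T
  have hex : Function.Exact (ψ.restrictScalars T) π := by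
    intro x
    change (Submodule.Quotient.mk x : N₂ ⧸ LinearMap.range ψ) = 0 ↔ _
    rw [Submodule.Quotient.mk_eq_zero]
    rfl
  have hsurj : Function.Surjective π := Submodule.mkQ_surjective _
  rw [← injective_iff_baseChange (L := L)]
  refine LinearMap.lTensor_injective_of_exact_of_flat (π.baseChange L) ?_ ψ' hψ' ?_ _
  · exact LinearMap.lTensor_surjective L hsurj
  · exact lTensor_exact L hex hsurj

theorem forall_associatedPrimes_iff {B M ι : Type*} [CommRing B] [IsNoetherianRing B] [AddCommGroup M] [Module B M]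
    (f : ι → B) : (∀ P ∈ associatedPrimes B M, ∃ k, f k ∉ P) ↔ ∀ m : M, (∀ k, f k • m = 0) → m = 0 := by
  constructor
  · intro h m hm
    by_contra hne
    obtain ⟨P, hP, hle⟩ := exists_le_isAssociatedPrime_of_isNoetherianRing B m hne
    obtain ⟨k, hk⟩ := h P hP
    exact hk (hle (by rw [Submodule.mem_colon_singleton, Submodule.mem_bot]; exact hm k))
  · intro h P hP
    by_contra hcon
    push Not at hcon
    obtain ⟨hprime, x, hx⟩ := isAssociatedPrime_iff.mp hP
    have hx0 : x = 0 := h x (fun k => by
      have := hcon k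
      rwa [hx, Submodule.mem_colon_singleton, Submodule.mem_bot] at this)
    apply hprime.ne_top
    rw [hx, Ideal.eq_top_iff_one, Submodule.mem_colon_singleton, Submodule.mem_bot, one_smul]
    exact hx0

/-- multiplication by a finite family of elements -/
def mulFam {B N ι : Type*} [CommRing B] [AddCommGroup N] [Module B N] (f : ι → B) : N →ₗ[B] (ι → N) :=
  LinearMap.pi fun k => LinearMap.lsmul B N (f k)

theorem mulFam_injective_iff {T B N K : Type*} [CommRing T] [CommRing B] [Algebra T B] [AddCommGroup N] [Module B N]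
    [Module T N] [IsScalarTower T B N] [AddCommGroup K] [Module T K] {r : ℕ} (f : Fin r → B) :
    Function.Injective (((mulFam (N := N) f).restrictScalars T).rTensor K) ↔
      ∀ m : N ⊗[T] K, (∀ k, f k • m = 0) → m = 0 := by
  have hsmul : ∀ (k : Fin r) (m : N ⊗[T] K), ((LinearMap.proj k : (Fin r → N) →ₗ[T] N).rTensor K)
      (((mulFam (N := N) f).restrictScalars T).rTensor K m) = f k • m := by
    intro k m
    induction m with
    | zero => simp
    | add x y hx hy => simp only [map_add, smul_add, hx, hy]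
    | tmul n x => simp [mulFam, TensorProduct.smul_tmul']
  rw [injective_iff_map_eq_zero]
  constructor
  · intro h m hm
    apply h
    have hid : ∑ k : Fin r, (LinearMap.single T (fun _ => N) k) ∘ₗ (LinearMap.proj k : (Fin r → N) →ₗ[T] N) =
        LinearMap.id := by
      ext k n
      simp
    have h2 : ∀ z : (Fin r → N) ⊗[T] K, (∀ k, ((LinearMap.proj k : (Fin r → N) →ₗ[T] N).rTensor K) z = 0) → z = 0 := by
      intro z hz
      have h3 : (LinearMap.rTensor K (∑ k : Fin r, (LinearMap.single T (fun _ => N) k) ∘ₗ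
          (LinearMap.proj k : (Fin r → N) →ₗ[T] N))) z = z := by
        rw [hid, LinearMap.rTensor_id, LinearMap.id_apply]
      have h4 : (LinearMap.rTensor K (∑ k : Fin r, (LinearMap.single T (fun _ => N) k) ∘ₗ
          (LinearMap.proj k : (Fin r → N) →ₗ[T] N))) z = 0 := by
        rw [← LinearMap.coe_rTensorHom, map_sum, LinearMap.sum_apply]
        apply Finset.sum_eq_zero
        intro k _
        rw [LinearMap.coe_rTensorHom, LinearMap.rTensor_comp, LinearMap.comp_apply, hz k, map_zero]
      rw [← h3, h4]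
    apply h2
    intro k
    rw [hsmul, hm k]
  · intro h m hm
    apply h
    intro k
    rw [← hsmul, hm, map_zero]

/-- The set of primes `τ` such that no associated prime of the fibre `N ⊗ κ(τ)` contains all `f k` is ind-constructible. -/
theorem exists_forall_associatedPrimes {T B N : Type u} [CommRing T] [CommRing B] [IsNoetherianRing B] [Algebra T B]
    [Algebra.FiniteType T B] [AddCommGroup N] [Module B N] [Module T N] [IsScalarTower T B N] [Module.Finite B N]
    {r : ℕ} (f : Fin r → B) (τ : Ideal T) [τ.IsPrime]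
    (h : ∀ P ∈ associatedPrimes B (N ⊗[T] τ.ResidueField), ∃ k, f k ∉ P) :
    ∃ a ∉ τ, ∀ (τ' : Ideal T) [τ'.IsPrime], τ ≤ τ' → a ∉ τ' →
      ∀ P ∈ associatedPrimes B (N ⊗[T] τ'.ResidueField), ∃ k, f k ∉ P := by
  rw [forall_associatedPrimes_iff, ← mulFam_injective_iff, ← LinearMap.lTensor_inj_iff_rTensor_inj] at h
  obtain ⟨a, ha, H⟩ := exists_forall_injective B (mulFam (N := N) f) τ h
  refine ⟨a, ha, fun τ' _ hle ha' => ?_⟩
  rw [forall_associatedPrimes_iff, ← mulFam_injective_iff, ← LinearMap.lTensor_inj_iff_rTensor_inj]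
  exact H τ' hle ha'

end Groth.Agent.Fdesc.PureIndCons
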