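import Groth.Agent.Fdesc.PureIndCons
import Groth.Agent.Flat2A.ImpurityBC
import Groth.Agent.Flat2A.ProjPure
import Groth.Agent.Flat2A.FiberEquiv
import Mathlib.RingTheory.Spectrum.Prime.Chevalley

/-!
# Impurities and the image of a flat chart with projective sections

Let `S` be a flat `B`-algebra such that `S ⊗[B] N` is projective over `T`. For a `T`-algebra `D` and primes
`t' ≤ t` of `D`:
* if `N` has no impurity over `Spec D` at `t' ≤ t` and all primes of `B` over `t ∩ T` are in the image of `Spec S`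
  then so are all relatively associated primes of `N` over `t' ∩ T` (`mem_of_not_imp`);
* conversely, if all relatively associated primes of `N` over `t' ∩ T` are in the image of `Spec S`, then `N` has no
  impurity over `Spec D` at `t' ≤ t` (`not_imp_of_mem`).
-/

set_option autoImplicit false
universe u

namespace Groth.Agent.Fdesc.PureLocus

open TensorProduct Groth.Agent.Flat2A.ImpurityBC Groth.Agent.Flat2A.AssBaseChange Groth.Agent.Flat2A.Fiber

/-- all relatively associated primes over `τ` lift to `S` -/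
def Covers (T B : Type u) [CommRing T] [CommRing B] [Algebra T B] (N : Type u) [AddCommGroup N] [Module B N]
    (S : Type u) [CommRing S] [Algebra B S] (τ : Ideal T) [τ.IsPrime] : Prop :=
  ∀ P ∈ associatedPrimes B (FlatCA.fiberMod τ B N), ∃ Q : Ideal S, Q.IsPrime ∧ Q.comap (algebraMap B S) = P

section

attribute [local instance] Algebra.TensorProduct.rightAlgebra

variable {T B N S D : Type u} [CommRing T] [CommRing B] [Algebra T B] [AddCommGroup N] [Module B N]
  [CommRing S] [Algebra B S] [CommRing D] [Algebra T D]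

theorem mem_of_not_imp [Algebra.FiniteType T B] [Module T N] [IsScalarTower T B N] [Module.Flat B S]
    (t' t : Ideal D) [t'.IsPrime] [t.IsPrime] (hle : t' ≤ t)
    (hno : ¬ Imp T B N D t' t) (hcov : ∀ (P : Ideal B) [P.IsPrime], P.comap (algebraMap T B) = t.comap (algebraMap T D) →
      ∃ Q : Ideal S, Q.IsPrime ∧ Q.comap (algebraMap B S) = P) :
    Covers T B N S (t'.comap (algebraMap T D)) := by
  intro P hP
  have l1 : t'.LiesOver (t'.comap (algebraMap T D)) := ⟨rfl⟩
  have n1 := fiber_isNoetherianRing (S := B) (t'.comap (algebraMap T D))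
  have n2 := fiber_isNoetherianRing (S := D ⊗[T] B) t'
  have po : Algebra.IsPushout T B D (D ⊗[T] B) := inferInstance
  obtain ⟨P₂, hP₂, hc⟩ := exists_mem_ass_fiberMod (t'.comap (algebraMap T D)) t'
    (TensorProduct.mk B (D ⊗[T] B) N 1) (TensorProduct.isBaseChange _ _ _) P hP
  have h1 : ∃ P' : Ideal (D ⊗[T] B), P'.IsPrime ∧ P₂ ≤ P' ∧ P'.LiesOver t := by
    by_contra hcon
    push Not at hcon
    exact hno ⟨hle, P₂, hP₂, fun P' _ h1 h2 => hcon P' inferInstance h1 h2⟩
  obtain ⟨P', hP', hle', hover⟩ := h1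
  obtain ⟨Q, hQ, hQ'⟩ := hcov (P'.comap (algebraMap B (D ⊗[T] B))) (by
    rw [Ideal.comap_comap, ← IsScalarTower.algebraMap_eq, IsScalarTower.algebraMap_eq T D (D ⊗[T] B), ← Ideal.comap_comap]
    exact congrArg (Ideal.comap (algebraMap T D)) hover.over.symm)
  have l2 : Q.LiesOver (P'.comap (algebraMap B (D ⊗[T] B))) := ⟨hQ'.symm⟩
  have hprime : P.IsPrime := hP.1
  obtain ⟨Q₂, -, hQ₂, hQ₂'⟩ := Ideal.exists_ideal_le_liesOver_of_le (R := B) (S := S) (p := P)
    (q := P'.comap (algebraMap B (D ⊗[T] B))) Q (by rw [← hc]; exact Ideal.comap_mono hle')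
  exact ⟨Q₂, hQ₂, hQ₂'.over.symm⟩

/-- base change of maps along a pushout square of rings -/
theorem injective_lTensor_baseChange_iff {N₂ K : Type u} [AddCommGroup N₂] [Module B N₂]
    [Module T N] [IsScalarTower T B N] [Module T N₂] [IsScalarTower T B N₂]
    (f : N →ₗ[B] N₂) [AddCommGroup K] [Module D K] :
    Function.Injective (((f.baseChange (D ⊗[T] B)).restrictScalars D).lTensor K) ↔
      Function.Injective (((f.restrictScalars T).baseChange D).lTensor K) := by
  let e : (D ⊗[T] B) ⊗[B] N ≃ₗ[D] D ⊗[T] N := Algebra.IsPushout.cancelBaseChange T D B (D ⊗[T] B) N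
  let e₂ : (D ⊗[T] B) ⊗[B] N₂ ≃ₗ[D] D ⊗[T] N₂ := Algebra.IsPushout.cancelBaseChange T D B (D ⊗[T] B) N₂
  have h : ((f.baseChange (D ⊗[T] B)).restrictScalars D) ∘ₗ e.symm.toLinearMap =
      e₂.symm.toLinearMap ∘ₗ ((f.restrictScalars T).baseChange D) := by
    ext x
    simp [e, e₂]
  have h2 : (e₂.symm.toLinearMap ∘ₗ ((f.restrictScalars T).baseChange D)) ∘ₗ e.toLinearMap =
      ((f.baseChange (D ⊗[T] B)).restrictScalars D) := by
    rw [← h]
    ext x
    simp
  rw [← h2, LinearMap.lTensor_comp, LinearMap.lTensor_comp, LinearMap.coe_comp, LinearMap.coe_comp]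
  have b1 : Function.Bijective (e.toLinearMap.lTensor K) := (e.lTensor K).bijective
  have b2 : Function.Bijective (e₂.symm.toLinearMap.lTensor K) := (e₂.symm.lTensor K).bijective
  constructor
  · intro H
    have h3 : Function.Injective (⇑(LinearMap.lTensor K (LinearMap.baseChange D (f.restrictScalars T))) ∘
        ⇑(e.toLinearMap.lTensor K)) := by
      rw [Function.comp_assoc] at H
      exact H.of_comp
    exact (Function.Injective.of_comp_iff' _ b1).mp h3
  · intro H
    exact (b2.injective.comp H).comp b1.injective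

/-- If all associated primes of the `B`-module `M` are in the image of the spectrum of the flat algebra `S` then
`M → S ⊗ M` is injective. -/
theorem mk_injective_of_covers [IsNoetherianRing B] [Module.Flat B S] (M : Type u) [AddCommGroup M] [Module B M]
    (h : ∀ P ∈ associatedPrimes B M, ∃ Q : Ideal S, Q.IsPrime ∧ Q.comap (algebraMap B S) = P) :
    Function.Injective (TensorProduct.mk B S M 1) := by
  rw [injective_iff_map_eq_zero]
  by_contra hcon
  push Not at hcon
  obtain ⟨z, hz, hz0⟩ := hcon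
  let K : Submodule B M := LinearMap.ker (TensorProduct.mk B S M 1)
  have hzK : (⟨z, hz⟩ : K) ≠ 0 := fun h => hz0 (congrArg Subtype.val h)
  obtain ⟨P, hP, -⟩ := exists_le_isAssociatedPrime_of_isNoetherianRing B (⟨z, hz⟩ : K) hzK
  obtain ⟨hprime, φ, hφ⟩ := (isAssociatedPrime_iff_exists_injective_linearMap (I := P) (M := K)).mp hP
  obtain ⟨Q, hQ, hQP⟩ := h P (associatedPrimes.subset_of_injective K.injective_subtype hP)
  let φ' : (B ⧸ P) →ₗ[B] M := K.subtype ∘ₗ φ
  have hφ' : Function.Injective φ' := K.injective_subtype.comp hφ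
  have h1 : Function.Injective (φ'.lTensor S) := Module.Flat.lTensor_preserves_injective_linearMap φ' hφ'
  have h2 : (1 : S) ⊗ₜ[B] (Ideal.Quotient.mk P 1) = 0 := by
    apply h1
    rw [LinearMap.lTensor_tmul, map_zero]
    exact (φ (Ideal.Quotient.mk P 1)).2
  have h3 := congrArg (TensorProduct.tensorQuotEquivQuotSMul S P) h2
  rw [map_zero, TensorProduct.tensorQuotEquivQuotSMul_tmul_mk, one_smul, Submodule.Quotient.mk_eq_zero,
    Ideal.smul_top_eq_map] at h3
  have h4 : P.map (algebraMap B S) ≤ Q := Ideal.map_le_iff_le_comap.mpr hQP.ge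
  exact hQ.ne_top ((Ideal.eq_top_iff_one _).mpr (h4 h3))

theorem rTensor_injective_of_covers [IsNoetherianRing B] [Module T N] [IsScalarTower T B N] [Algebra T S]
    [IsScalarTower T B S] [Module.Flat B S] (K : Type u) [AddCommGroup K] [Module T K]
    (h : ∀ P ∈ associatedPrimes B (N ⊗[T] K), ∃ Q : Ideal S, Q.IsPrime ∧ Q.comap (algebraMap B S) = P) :
    Function.Injective (((TensorProduct.mk B S N 1).restrictScalars T).rTensor K) := by
  let e : (S ⊗[B] N) ⊗[T] K ≃ₗ[B] S ⊗[B] (N ⊗[T] K) := AlgebraTensorModule.assoc T B B S N K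
  have h1 : ∀ z, e (((TensorProduct.mk B S N 1).restrictScalars T).rTensor K z) = TensorProduct.mk B S (N ⊗[T] K) 1 z := by
    intro z
    induction z with
    | zero => simp
    | add x y hx hy => simp only [map_add, hx, hy]
    | tmul n k => simp [e]
  have h2 := mk_injective_of_covers (S := S) (N ⊗[T] K) h
  intro x y hxy
  apply h2
  rw [← h1, ← h1, hxy]

omit [CommRing S] [Algebra B S] [CommRing D] [Algebra T D] [CommRing B] [Algebra T B] [Module B N] in
theorem lTensor_injective_of_field_tower {κ κ' N₂ : Type u} [Field κ] [Field κ'] [Algebra T κ] [Algebra κ κ']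
    [Algebra T κ'] [IsScalarTower T κ κ'] [AddCommGroup N₂] [Module T N] [Module T N₂] (ψ : N →ₗ[T] N₂)
    (h : Function.Injective (ψ.lTensor κ)) : Function.Injective (ψ.lTensor κ') := by
  rw [← PureIndCons.injective_iff_baseChange (L := κ)]
  exact Module.Flat.lTensor_preserves_injective_linearMap (ψ.baseChange κ) h

theorem not_imp_of_covers [IsNoetherianRing B] [Algebra.FiniteType T B] [Module T N] [IsScalarTower T B N]
    [Algebra T S] [IsScalarTower T B S] [Module.Flat B S] [Module.Projective T (S ⊗[B] N)]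
    (t' t : Ideal D) [t'.IsPrime] [t.IsPrime] (h : Covers T B N S (t'.comap (algebraMap T D))) :
    ¬ Imp T B N D t' t := by
  rintro ⟨hle, P, hP, hno⟩
  obtain ⟨hPp, hPo, hPa⟩ := (Groth.Agent.Flat2A.FiberAss.mem_associatedPrimes_fiberMod_iff _ _ _).mp hP
  let τ := t'.comap (algebraMap T D)
  have l1 : t'.LiesOver τ := ⟨rfl⟩
  let i1 : Algebra τ.ResidueField t'.ResidueField :=
    (Ideal.ResidueField.mapₐ τ t' (Algebra.ofId T D) l1.over).toRingHom.toAlgebra
  have s1 : IsScalarTower T D t'.ResidueField := inferInstance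
  have s2 : IsScalarTower T τ.ResidueField t'.ResidueField := IsScalarTower.of_algebraMap_eq fun x => by
    exact ((Ideal.ResidueField.mapₐ τ t' (Algebra.ofId T D) l1.over).commutes x).symm
  let ψ : N →ₗ[B] S ⊗[B] N := TensorProduct.mk B S N 1
  have h1 : Function.Injective ((ψ.restrictScalars T).rTensor τ.ResidueField) := by
    apply rTensor_injective_of_covers
    intro P' hP'
    apply h
    rwa [LinearEquiv.AssociatedPrimes.eq (Groth.Agent.Flat2A.FiberEquiv.fiberModEquiv B τ N)]
  rw [← LinearMap.lTensor_inj_iff_rTensor_inj] at h1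
  have h2 : Function.Injective ((ψ.restrictScalars T).lTensor t'.ResidueField) :=
    lTensor_injective_of_field_tower (ψ.restrictScalars T) h1
  have hproj : Module.Projective D ((D ⊗[T] B) ⊗[B] (S ⊗[B] N)) := by
    let e : (D ⊗[T] B) ⊗[B] (S ⊗[B] N) ≃ₗ[D] D ⊗[T] (S ⊗[B] N) :=
      Algebra.IsPushout.cancelBaseChange T D B (D ⊗[T] B) (S ⊗[B] N)
    exact Module.Projective.of_equiv e.symm
  obtain ⟨P', hP'p, hle', hover⟩ := Groth.Agent.Flat2A.ProjPure.exists_prime_over (A := D) (B := D ⊗[T] B)
    (ψ.baseChange (D ⊗[T] B)) t' t hle (by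
      rw [← LinearMap.lTensor_inj_iff_rTensor_inj, injective_lTensor_baseChange_iff,
        PureIndCons.injective_iff_baseChange]
      exact h2) P hPa
  exact hno P' hle' hover

omit [AddCommGroup N] [Module B N] [CommRing D] [Algebra T D] [CommRing T] [Algebra T B] in
/-- the image of `Spec S` is the set of primes not containing all of finitely many elements -/
theorem exists_family [IsNoetherianRing B] [Module.Flat B S] [Algebra.FinitePresentation B S] :
    ∃ (r : ℕ) (f : Fin r → B), ∀ P : Ideal B, P.IsPrime →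
      ((∃ Q : Ideal S, Q.IsPrime ∧ Q.comap (algebraMap B S) = P) ↔ ∃ k, f k ∉ P) := by
  have hopen : IsOpen (Set.range (PrimeSpectrum.comap (algebraMap B S))) := by
    rw [← Set.image_univ]
    exact PrimeSpectrum.isOpenMap_comap_of_hasGoingDown_of_finitePresentation _ isOpen_univ
  obtain ⟨I, hI⟩ := (PrimeSpectrum.isClosed_iff_zeroLocus_ideal _).mp hopen.isClosed_compl
  obtain ⟨r, f, hf⟩ := Submodule.fg_iff_exists_fin_generating_family.mp (IsNoetherian.noetherian I)
  refine ⟨r, f, fun P hP => ?_⟩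
  have h1 : (∃ Q : Ideal S, Q.IsPrime ∧ Q.comap (algebraMap B S) = P) ↔
      (⟨P, hP⟩ : PrimeSpectrum B) ∈ Set.range (PrimeSpectrum.comap (algebraMap B S)) := by
    constructor
    · rintro ⟨Q, hQ, rfl⟩
      exact ⟨⟨Q, hQ⟩, rfl⟩
    · rintro ⟨Q, hQ⟩
      exact ⟨Q.asIdeal, Q.isPrime, congrArg PrimeSpectrum.asIdeal hQ⟩
  have h2 : (⟨P, hP⟩ : PrimeSpectrum B) ∈ Set.range (PrimeSpectrum.comap (algebraMap B S)) ↔ ¬ I ≤ P := by
    rw [← not_iff_not, not_not, ← Set.mem_compl_iff, hI]
    rfl
  rw [h1, h2, ← hf]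
  change ¬ (Ideal.span (Set.range f)) ≤ P ↔ _
  rw [Ideal.span_le, Set.range_subset_iff]
  push Not
  rfl

theorem exists_forall_covers [IsNoetherianRing B] [Algebra.FiniteType T B] [Module T N] [IsScalarTower T B N]
    [Module.Finite B N] [Module.Flat B S] [Algebra.FinitePresentation B S] (τ : Ideal T) [τ.IsPrime]
    (h : Covers T B N S τ) :
    ∃ a ∉ τ, ∀ (τ' : Ideal T) [τ'.IsPrime], τ ≤ τ' → a ∉ τ' → Covers T B N S τ' := by
  obtain ⟨r, f, hf⟩ := exists_family (B := B) (S := S)
  have key : ∀ (σ : Ideal T) [σ.IsPrime], Covers T B N S σ ↔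
      ∀ P ∈ associatedPrimes B (N ⊗[T] σ.ResidueField), ∃ k, f k ∉ P := by
    intro σ _
    rw [Covers, LinearEquiv.AssociatedPrimes.eq (Groth.Agent.Flat2A.FiberEquiv.fiberModEquiv B σ N)]
    constructor
    · intro H P hP
      exact (hf P hP.1).mp (H P hP)
    · intro H P hP
      exact (hf P hP.1).mpr (H P hP)
  rw [key] at h
  obtain ⟨a, ha, H⟩ := PureIndCons.exists_forall_associatedPrimes f τ h
  exact ⟨a, ha, fun τ' _ hle ha' => (key τ').mpr (H τ' hle ha')⟩

end

end Groth.Agent.Fdesc.PureLocus
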