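import Groth.Agent.S0387
import Groth.Agent.Flat2B.EtaleNhd

/-!
# Flatness along a fibre descends to a finitely generated subalgebra
-/

set_option autoImplicit false
universe u

namespace Groth.Agent.Fdesc.PureModel

open TensorProduct Groth.Agent.FlatA.FlatDescent

section

variable {A₀ B₀ N₀ A B : Type u} [CommRing A₀] [CommRing B₀] [Algebra A₀ B₀] [AddCommGroup N₀] [Module A₀ N₀]
  [Module B₀ N₀] [IsScalarTower A₀ B₀ N₀] [CommRing A] [Algebra A₀ A] [CommRing B] [Algebra A B] [Algebra B₀ B]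
  [Algebra A₀ B] [IsScalarTower A₀ A B] [IsScalarTower A₀ B₀ B]

variable (N₀ B) in
/-- the set of primes of `B` at whose contraction the stage `A'` is flat (for all models) -/
def V (A' : Subalgebra A₀ A) : Set (PrimeSpectrum B) :=
  {q | ∀ (B₂ N₂ : Type u) [CommRing B₂] [Algebra A₀ B₂] [Algebra A' B₂] [Algebra B₀ B₂]
        [Algebra B₂ B] [IsScalarTower A₀ A' B₂] [IsScalarTower A₀ B₀ B₂] [Algebra.IsPushout A₀ A' B₀ B₂]
        [IsScalarTower B₀ B₂ B] [IsScalarTower A' B₂ B] [AddCommGroup N₂] [Module B₀ N₂]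
        [Module A' N₂] [Module B₂ N₂] [IsScalarTower A' B₂ N₂] [IsScalarTower B₀ B₂ N₂]
        (g₂ : N₀ →ₗ[B₀] N₂) (_ : IsBaseChange B₂ g₂),
        Module.Flat A' (LocalizedModule (q.asIdeal.under B₂).primeCompl N₂)}

theorem mem_V_of_model {A' : Subalgebra A₀ A} {q : PrimeSpectrum B} {B₁ N₁ : Type u} [CommRing B₁] [Algebra A₀ B₁]
    [Algebra A' B₁] [Algebra B₀ B₁] [Algebra B₁ B] [IsScalarTower A₀ A' B₁] [IsScalarTower A₀ B₀ B₁]
    [Algebra.IsPushout A₀ A' B₀ B₁] [IsScalarTower B₀ B₁ B] [IsScalarTower A' B₁ B] [AddCommGroup N₁] [Module B₀ N₁]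
    [Module A' N₁] [Module B₁ N₁] [IsScalarTower A' B₁ N₁] [IsScalarTower B₀ B₁ N₁]
    (g₁ : N₀ →ₗ[B₀] N₁) (hg₁ : IsBaseChange B₁ g₁)
    (h : Module.Flat A' (LocalizedModule (q.asIdeal.under B₁).primeCompl N₁)) : q ∈ V (B₀ := B₀) N₀ B A' := by
  intro B₂ N₂ _ _ _ _ _ _ _ _ _ _ _ _ _ _ _ _ g₂ hg₂
  exact flat_mono q.asIdeal A' A' le_rfl g₁ hg₁ g₂ hg₂ h

theorem V_mono {A' A'' : Subalgebra A₀ A} (h : A' ≤ A'') : V (B₀ := B₀) N₀ B A' ⊆ V (B₀ := B₀) N₀ B A'' := by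
  intro q hq B₂ N₂ _ _ _ _ _ _ _ _ _ _ _ _ _ _ _ _ g₂ hg₂
  obtain ⟨B₁, N₁, _, _, _, _, _, _, _, _, _, _, _, _, _, _, _, _, g₁, hg₁⟩ :=
    exists_level_model (A := A₀) (B := B₀) (N := N₀) (R := A) (S := B) A'
  exact flat_mono q.asIdeal A' A'' h g₁ hg₁ g₂ hg₂ (hq B₁ N₁ g₁ hg₁)

/-- a level model, finitely presented -/
theorem exists_level [Algebra.FiniteType A₀ B₀] [IsNoetherianRing A₀] [Module.Finite B₀ N₀] (A' : Subalgebra A₀ A) :
    ∃ (B₁ N₁ : Type u) (_ : CommRing B₁) (_ : Algebra A₀ B₁) (_ : Algebra A' B₁) (_ : Algebra B₀ B₁)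
      (_ : Algebra B₁ B) (_ : IsScalarTower A₀ A' B₁) (_ : IsScalarTower A₀ B₀ B₁)
      (_ : Algebra.IsPushout A₀ A' B₀ B₁) (_ : IsScalarTower B₀ B₁ B) (_ : IsScalarTower A' B₁ B)
      (_ : AddCommGroup N₁) (_ : Module B₀ N₁) (_ : Module A' N₁) (_ : Module B₁ N₁)
      (_ : IsScalarTower A' B₁ N₁) (_ : IsScalarTower B₀ B₁ N₁) (g₁ : N₀ →ₗ[B₀] N₁),
        IsBaseChange B₁ g₁ ∧ Algebra.FinitePresentation A' B₁ ∧ Module.FinitePresentation B₁ N₁ := by
  have fp1 : Algebra.FinitePresentation A₀ B₀ := (Algebra.FinitePresentation.of_finiteType).mp inferInstance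
  have nB₀ : IsNoetherianRing B₀ := Algebra.FiniteType.isNoetherianRing A₀ B₀
  have fp2 : Module.FinitePresentation B₀ N₀ := Module.finitePresentation_of_finite B₀ N₀
  obtain ⟨B₁, N₁, _, _, _, _, _, _, _, _, _, _, _, _, _, _, _, _, g₁, hg₁⟩ :=
    exists_level_model (A := A₀) (B := B₀) (N := N₀) (R := A) (S := B) A'
  refine ⟨B₁, N₁, inferInstance, inferInstance, inferInstance, inferInstance, inferInstance, inferInstance,
    inferInstance, inferInstance, inferInstance, inferInstance, inferInstance, inferInstance, inferInstance,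
    inferInstance, inferInstance, inferInstance, g₁, hg₁, ?_, ?_⟩
  · exact Algebra.FinitePresentation.equiv (Algebra.IsPushout.equiv A₀ A' B₀ B₁)
  · exact Module.FinitePresentation.of_equiv hg₁.equiv

theorem isOpen_V [Algebra.FiniteType A₀ B₀] [IsNoetherianRing A₀] [Module.Finite B₀ N₀] (A' : Subalgebra A₀ A) :
    IsOpen (V (B₀ := B₀) N₀ B A') := by
  obtain ⟨B₁, N₁, _, _, _, _, _, _, _, _, _, _, _, _, _, _, _, _, g₁, hg₁, h1, h2⟩ :=
    exists_level (A₀ := A₀) (B₀ := B₀) (N₀ := N₀) (A := A) (B := B) A'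
  have h3 : V (B₀ := B₀) N₀ B A' = PrimeSpectrum.comap (algebraMap B₁ B) ⁻¹'
      {q | Module.Flat A' (LocalizedModule q.asIdeal.primeCompl N₁)} := by
    apply Set.Subset.antisymm
    · intro q hq
      exact hq B₁ N₁ g₁ hg₁
    · intro q hq
      exact mem_V_of_model g₁ hg₁ hq
  rw [h3]
  exact (Groth.Agent.S0387.result (R := A') (S := B₁) (M := N₁)).preimage (PrimeSpectrum.continuous_comap _)

theorem exists_mem_V [IsNoetherianRing A₀] [Algebra.FiniteType A₀ B₀] [Module.Finite B₀ N₀]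
    [Algebra.IsPushout A₀ A B₀ B] {N : Type u} [AddCommGroup N] [Module B N] [Module A N] [Module B₀ N]
    [IsScalarTower A B N] [IsScalarTower B₀ B N] (g : N₀ →ₗ[B₀] N) (hg : IsBaseChange B g) (q : PrimeSpectrum B)
    (h : Module.Flat A (LocalizedModule q.asIdeal.primeCompl N)) :
    ∃ A' : Subalgebra A₀ A, A'.FG ∧ q ∈ V (B₀ := B₀) N₀ B A' := by
  obtain ⟨A', hA', H⟩ := exists_subalgebra_flat (A := A₀) (B := B₀) (R := A) g hg q.asIdeal h
  exact ⟨A', hA', H A' le_rfl⟩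

/-- Flatness along a fibre descends to a finitely generated subalgebra. -/
theorem exists_fg_flat_fibre [IsNoetherianRing A₀] [Algebra.FiniteType A₀ B₀] [Module.Finite B₀ N₀]
    [Algebra.IsPushout A₀ A B₀ B] {N : Type u} [AddCommGroup N] [Module B N] [Module A N] [Module B₀ N]
    [IsScalarTower A B N] [IsScalarTower B₀ B N] (g : N₀ →ₗ[B₀] N) (hg : IsBaseChange B g) (p : Ideal A) [p.IsPrime]
    (h : ∀ (q : Ideal B) [q.IsPrime], q.LiesOver p → Module.Flat A (LocalizedModule q.primeCompl N)) :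
    ∃ A' : Subalgebra A₀ A, A'.FG ∧ ∀ (B₁ N₁ : Type u) [CommRing B₁] [Algebra A₀ B₁] [Algebra A' B₁] [Algebra B₀ B₁]
        [Algebra B₁ B] [IsScalarTower A₀ A' B₁] [IsScalarTower A₀ B₀ B₁] [Algebra.IsPushout A₀ A' B₀ B₁]
        [IsScalarTower B₀ B₁ B] [IsScalarTower A' B₁ B] [AddCommGroup N₁] [Module B₀ N₁]
        [Module A' N₁] [Module B₁ N₁] [IsScalarTower A' B₁ N₁] [IsScalarTower B₀ B₁ N₁]
        (g₁ : N₀ →ₗ[B₀] N₁) (_ : IsBaseChange B₁ g₁) (q : Ideal B₁) [q.IsPrime],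
        q.LiesOver (p.comap (algebraMap A' A)) → Module.Flat A' (LocalizedModule q.primeCompl N₁) := by
  let F : Set (PrimeSpectrum B) := {x : PrimeSpectrum B | x.asIdeal.LiesOver p}
  have hcomp : IsCompact F := by
    have hF : F = PrimeSpectrum.comap (algebraMap A B) ⁻¹' {⟨p, inferInstance⟩} := by
      ext x
      constructor
      · intro hx
        exact PrimeSpectrum.ext hx.over.symm
      · intro hx
        exact ⟨(congrArg PrimeSpectrum.asIdeal hx).symm⟩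
    rw [hF, isCompact_iff_compactSpace]
    exact (PrimeSpectrum.preimageHomeomorphFiber A B ⟨p, inferInstance⟩).symm.compactSpace
  let ι := {A' : Subalgebra A₀ A // A'.FG}
  have : Nonempty ι := ⟨⟨⊥, Subalgebra.fg_bot⟩⟩
  obtain ⟨⟨A', hA'⟩, hFA'⟩ := hcomp.elim_directed_cover (fun A' : ι => V (B₀ := B₀) N₀ B A'.1)
    (fun A' => isOpen_V A'.1) (by
      intro q hq
      obtain ⟨A', hA', hq'⟩ := exists_mem_V (A₀ := A₀) g hg q (h q.asIdeal hq)
      exact Set.mem_iUnion.mpr ⟨⟨A', hA'⟩, hq'⟩) (by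
      intro A' A''
      exact ⟨⟨A'.1 ⊔ A''.1, A'.2.sup A''.2⟩, V_mono le_sup_left, V_mono le_sup_right⟩)
  refine ⟨A', hA', ?_⟩
  intro B₁ N₁ _ _ _ _ _ _ _ _ _ _ _ _ _ _ _ _ g₁ hg₁ q _ hq
  have _ : IsScalarTower A₀ B₁ B := IsScalarTower.of_algebraMap_eq fun x ↦ by
    have h1 := IsScalarTower.algebraMap_apply A₀ B₀ B x
    have h2 := IsScalarTower.algebraMap_apply B₀ B₁ B (algebraMap A₀ B₀ x)
    have h3 := IsScalarTower.algebraMap_apply A₀ B₀ B₁ x
    rw [h1, h2, ← h3]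
  have po : Algebra.IsPushout A' A B₁ B := by
    rw [← Algebra.IsPushout.comp_iff A₀ A' B₀ B₁]
    infer_instance
  have l1 : p.LiesOver (p.comap (algebraMap A' A)) := ⟨rfl⟩
  obtain ⟨Q, hQ, hQ1, hQ2⟩ := Groth.Agent.Flat2B.EtaleNhd.exists_prime_of_isPushout (R := A') (S := A)
    (R' := B₁) (S' := B) (p.comap (algebraMap A' A)) p q
  have h1 := hFA' (show (⟨Q, hQ⟩ : PrimeSpectrum B) ∈ F from hQ1)
  have h2 : Q.under B₁ = q := hQ2.over.symm
  have h3 := h1 B₁ N₁ g₁ hg₁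
  subst h2
  exact h3

end

end Groth.Agent.Fdesc.PureModel
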