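import Groth.Agent.PerfA.ExactD
import Mathlib.CategoryTheory.Abelian.Subcategory
import Mathlib.CategoryTheory.ObjectProperty.Extensions
import Mathlib.CategoryTheory.Abelian.SerreClass.Basic
import Mathlib.Algebra.Homology.DerivedCategory.TStructure

/-!
# A full subcategory of a full subcategory, and derived categories

For object properties `P ≤ Q` of an abelian category `A` the full subcategory of `A` on `P` is
equivalent to the full subcategory of `Q.FullSubcategory` on `P`; on derived categories the functor
induced by `P.ι` is the composition of the functors induced by this equivalence and the two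
inclusions.
-/

set_option autoImplicit false

universe w w₁ w₂ v₁ v₂ u₁ u₂ v u

open CategoryTheory Category Limits

namespace Groth.Agent.Fdesc.SubDer

open Groth.Agent.PerfA.ExactD

section equivalence

variable {A : Type u₁} [Category.{v₁} A] [Abelian A] [HasDerivedCategory.{w₁} A]
  {B : Type u₂} [Category.{v₂} B] [Abelian B] [HasDerivedCategory.{w₂} B]

/-- An equivalence of abelian categories induces an equivalence of derived categories. -/
theorem isEquivalence_mapDerivedCategory (F : A ⥤ B) [F.IsEquivalence] [F.Additive]
    [PreservesFiniteLimits F] [PreservesFiniteColimits F] :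
    F.mapDerivedCategory.IsEquivalence := by
  have : F.asEquivalence.functor.Additive := inferInstanceAs F.Additive
  have : F.inv.Additive := inferInstanceAs F.asEquivalence.inverse.Additive
  have e1 : F.mapDerivedCategory ⋙ F.inv.mapDerivedCategory ≅ 𝟭 (DerivedCategory A) :=
    mapDComp (H := 𝟭 A) F.asEquivalence.unitIso.symm ≪≫ mapDId A
  have e2 : F.inv.mapDerivedCategory ⋙ F.mapDerivedCategory ≅ 𝟭 (DerivedCategory B) :=
    mapDComp (H := 𝟭 B) F.asEquivalence.counitIso ≪≫ mapDId B
  exact (CategoryTheory.Equivalence.mk F.mapDerivedCategory F.inv.mapDerivedCategory e1.symm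
    e2).isEquivalence_functor

/-- `IsLE` can be checked after a functor induced by an exact functor reflecting zero objects. -/
theorem isLE_of_map (F : A ⥤ B) [F.Additive] [PreservesFiniteLimits F] [PreservesFiniteColimits F]
    (hF : ∀ M : A, IsZero (F.obj M) → IsZero M) (K : DerivedCategory A) (n : ℤ)
    (h : (F.mapDerivedCategory.obj K).IsLE n) : K.IsLE n := by
  rw [DerivedCategory.isLE_iff] at h ⊢
  intro i hi
  exact hF _ ((h i hi).of_iso ((mapHomology F i).app K).symm)

/-- `IsGE` can be checked after a functor induced by an exact functor reflecting zero objects. -/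
theorem isGE_of_map (F : A ⥤ B) [F.Additive] [PreservesFiniteLimits F] [PreservesFiniteColimits F]
    (hF : ∀ M : A, IsZero (F.obj M) → IsZero M) (K : DerivedCategory A) (n : ℤ)
    (h : (F.mapDerivedCategory.obj K).IsGE n) : K.IsGE n := by
  rw [DerivedCategory.isGE_iff] at h ⊢
  intro i hi
  exact hF _ ((h i hi).of_iso ((mapHomology F i).app K).symm)

end equivalence

section products

variable {A : Type u} [Category.{v} A] [Abelian A]

/-- An isomorphism closed property of objects containing zero and closed under extensions is closed
under finite products. -/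
theorem isClosedUnderFiniteProducts (P : ObjectProperty A) [P.ContainsZero]
    [P.IsClosedUnderIsomorphisms] [P.IsClosedUnderExtensions] : P.IsClosedUnderFiniteProducts := by
  have : P.IsClosedUnderBinaryProducts :=
    { limitsOfShape_le := by
        rintro M ⟨p⟩
        have h1 := p.prop_diag_obj ⟨WalkingPair.left⟩
        have h2 := p.prop_diag_obj ⟨WalkingPair.right⟩
        let e : M ≅ (p.diag.obj ⟨WalkingPair.left⟩) ⊞ (p.diag.obj ⟨WalkingPair.right⟩) :=
          IsLimit.conePointUniqueUpToIso p.isLimit
            ((IsLimit.postcomposeHomEquiv (diagramIsoPair p.diag).symm _).symm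
              (BinaryBiproduct.isLimit _ _))
        exact P.prop_of_iso e.symm (P.prop_biprod h1 h2) }
  exact .mk'

end products

section nested

variable {A : Type u} [Category.{v} A] [Abelian A] (P Q : ObjectProperty A) (hPQ : P ≤ Q)

/-- The objects of `Q.FullSubcategory` satisfying `P`. -/
abbrev sub : ObjectProperty Q.FullSubcategory := fun M => P M.obj

/-- The functor from the full subcategory on `P` to the full subcategory of the full subcategory
on `Q`. -/
def toSub : P.FullSubcategory ⥤ (sub P Q).FullSubcategory :=
  (sub P Q).lift (Q.lift P.ι (fun M => hPQ _ M.property)) (fun M => M.property)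

/-- Compatibility of `toSub` with the inclusions. -/
def toSubIso : toSub P Q hPQ ⋙ (sub P Q).ι ⋙ Q.ι ≅ P.ι := Iso.refl _

instance : (toSub P Q hPQ).Faithful where
  map_injective {X Y f g} h := by
    have := congrArg (fun t => ((sub P Q).ι ⋙ Q.ι).map t) h
    exact P.ι.map_injective this

instance : (toSub P Q hPQ).Full where
  map_surjective {X Y} f := ⟨P.homMk (((sub P Q).ι ⋙ Q.ι).map f), rfl⟩

instance : (toSub P Q hPQ).EssSurj where
  mem_essImage Y := ⟨⟨Y.obj.obj, Y.property⟩, ⟨Iso.refl _⟩⟩

instance : (toSub P Q hPQ).IsEquivalence where

instance [P.ContainsZero] [P.IsClosedUnderKernels] [P.IsClosedUnderCokernels]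
    [P.IsClosedUnderFiniteProducts] [Q.ContainsZero] [Q.IsClosedUnderKernels]
    [Q.IsClosedUnderCokernels] [Q.IsClosedUnderFiniteProducts]
    : (toSub P Q hPQ).Additive where
  map_add := rfl

end nested

end Groth.Agent.Fdesc.SubDer
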