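import Groth.Agent.Fdesc.SubDer
import Groth.Agent.S1050

set_option autoImplicit false

universe w w₁ w₂ w₃ v u

open CategoryTheory Category Limits

namespace Groth.Agent.Fdesc.SubDer

open Groth.Agent.PerfA.ExactD

theorem isZero_of_isZero_obj {A B : Type*} [Category* A] [Category* B] [HasZeroMorphisms A]
    [HasZeroMorphisms B] (F : A ⥤ B) [F.Faithful] [F.PreservesZeroMorphisms] (X : A)
    (h : IsZero (F.obj X)) : IsZero X := by
  rw [IsZero.iff_id_eq_zero] at h ⊢
  exact F.map_injective (by rw [F.map_id, h, F.map_zero])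

section main

variable {A : Type u} [Category.{v} A] [Abelian A] [HasDerivedCategory.{w} A]
  (P Q : ObjectProperty A) (hPQ : P ≤ Q)
  [P.ContainsZero] [P.IsClosedUnderKernels] [P.IsClosedUnderCokernels]
  [P.IsClosedUnderFiniteProducts] [HasDerivedCategory.{w₁} P.FullSubcategory]
  [PreservesFiniteLimits P.ι] [PreservesFiniteColimits P.ι]
  [P.IsClosedUnderIsomorphisms]
  [Q.ContainsZero] [Q.IsClosedUnderKernels] [Q.IsClosedUnderCokernels]
  [Q.IsClosedUnderFiniteProducts] [HasDerivedCategory.{w₂} Q.FullSubcategory]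
  [PreservesFiniteLimits Q.ι] [PreservesFiniteColimits Q.ι]

include hPQ in
/-- If `P` is, inside the abelian subcategory `Q`, a Serre class to which epimorphisms onto objects
of `P` can be lifted, and `D(Q) ⥤ D(A)` is fully faithful, then `D⁻(P) ⥤ D(A)` is fully faithful,
with essential image described by the cohomology. -/
theorem main (hs : (sub P Q).IsSerreClass)
    (hlift : ∀ (X Y : A) (π : X ⟶ Y), Epi π → Q X → P Y →
      ∃ (X' : A) (i : X' ⟶ X), Mono i ∧ P X' ∧ Epi (i ≫ π))
    (hfull : Q.ι.mapDerivedCategory.Full) (hfaith : Q.ι.mapDerivedCategory.Faithful) :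
    (∀ (M N : DerivedCategory P.FullSubcategory) (b : ℤ), M.IsLE b → N.IsLE b →
      Function.Bijective (fun φ : M ⟶ N => P.ι.mapDerivedCategory.map φ)) ∧
    ∀ (K : DerivedCategory A) (b : ℤ), K.IsLE b →
      (∀ n : ℤ, P ((DerivedCategory.homologyFunctor A n).obj K)) →
      (∃ K' : DerivedCategory Q.FullSubcategory, Nonempty (Q.ι.mapDerivedCategory.obj K' ≅ K)) →
      ∃ M : DerivedCategory P.FullSubcategory, M.IsLE b ∧
        Nonempty (P.ι.mapDerivedCategory.obj M ≅ K) := by
  have hfp : (sub P Q).IsClosedUnderFiniteProducts := isClosedUnderFiniteProducts _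
  let _ : HasDerivedCategory.{max u v} (sub P Q).FullSubcategory := HasDerivedCategory.standard _
  have hk := (sub P Q).preservesKernels_ι
  have h1 : PreservesFiniteLimits (sub P Q).ι := Functor.preservesFiniteLimits_of_preservesKernels _
  have hc := (sub P Q).preservesCokernels_ι
  have h2 : PreservesFiniteColimits (sub P Q).ι :=
    Functor.preservesFiniteColimits_of_preservesCokernels _
  have hlift' : ∀ (X Y : Q.FullSubcategory) (π : X ⟶ Y), Epi π → sub P Q Y →
      ∃ (X' : Q.FullSubcategory) (i : X' ⟶ X), Mono i ∧ sub P Q X' ∧ Epi (i ≫ π) := by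
    intro X Y π hπ hY
    have h3 : Epi (Q.ι.map π) := inferInstance
    obtain ⟨X', i, hi, hX', he⟩ := hlift X.obj Y.obj (Q.ι.map π) h3 X.property hY
    refine ⟨⟨X', hPQ _ hX'⟩, Q.homMk i, ?_, hX', ?_⟩
    · exact Q.ι.mono_of_mono_map (by exact hi)
    · exact Q.ι.epi_of_epi_map (by exact he)
  obtain ⟨h3, h4⟩ := S1050.result (sub P Q) hlift'
  have h5 : PreservesFiniteLimits ((sub P Q).ι ⋙ Q.ι) := comp_preservesFiniteLimits _ _
  have h6 : PreservesFiniteColimits ((sub P Q).ι ⋙ Q.ι) := comp_preservesFiniteColimits _ _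
  let E := toSub P Q hPQ
  have hE := isEquivalence_mapDerivedCategory E
  let e : E.mapDerivedCategory ⋙ (sub P Q).ι.mapDerivedCategory ⋙ Q.ι.mapDerivedCategory ≅
      P.ι.mapDerivedCategory :=
    Functor.isoWhiskerLeft _ (mapDComp (H := (sub P Q).ι ⋙ Q.ι) (Iso.refl _)) ≪≫
      mapDComp (toSubIso P Q hPQ)
  refine ⟨fun M N b hM hN => ?_, fun K b hK hKP hKQ => ?_⟩
  · have hM' := isLE_map E M b
    have hN' := isLE_map E N b
    have h5 : Function.Bijective (fun φ : M ⟶ N =>
        (E.mapDerivedCategory ⋙ (sub P Q).ι.mapDerivedCategory ⋙ Q.ι.mapDerivedCategory).map φ) := by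
      have h6 : Function.Bijective (fun φ : M ⟶ N => E.mapDerivedCategory.map φ) :=
        ⟨E.mapDerivedCategory.map_injective, E.mapDerivedCategory.map_surjective⟩
      have h7 := h3 _ _ b hM' hN'
      have h8 : Function.Bijective (fun φ : (sub P Q).ι.mapDerivedCategory.obj
          (E.mapDerivedCategory.obj M) ⟶ (sub P Q).ι.mapDerivedCategory.obj
          (E.mapDerivedCategory.obj N) => Q.ι.mapDerivedCategory.map φ) :=
        ⟨Q.ι.mapDerivedCategory.map_injective, Q.ι.mapDerivedCategory.map_surjective⟩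
      exact h8.comp (h7.comp h6)
    have h9 : (fun φ : M ⟶ N => P.ι.mapDerivedCategory.map φ) =
        (fun ψ => e.inv.app M ≫ ψ ≫ e.hom.app N) ∘ (fun φ : M ⟶ N =>
          (E.mapDerivedCategory ⋙ (sub P Q).ι.mapDerivedCategory ⋙
            Q.ι.mapDerivedCategory).map φ) := by
      funext φ
      simp only [Function.comp_apply]
      rw [e.hom.naturality φ, Iso.inv_hom_id_app_assoc]
    rw [h9]
    refine Function.Bijective.comp ?_ h5
    constructor
    · intro a a' h
      simpa using h
    · intro a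
      exact ⟨e.hom.app M ≫ a ≫ e.inv.app N, by simp⟩
  · obtain ⟨K', ⟨eK⟩⟩ := hKQ
    have hz : ∀ M : Q.FullSubcategory, IsZero (Q.ι.obj M) → IsZero M := fun M h =>
      isZero_of_isZero_obj Q.ι M h
    have hK' : K'.IsLE b := by
      refine isLE_of_map Q.ι hz K' b ?_
      rw [DerivedCategory.isLE_iff] at hK ⊢
      intro i hi
      exact (hK i hi).of_iso ((DerivedCategory.homologyFunctor A i).mapIso eK)
    obtain ⟨M, hM, ⟨eM⟩⟩ := h4 K' b hK' (fun n => by
      have e1 : Q.ι.obj ((DerivedCategory.homologyFunctor Q.FullSubcategory n).obj K') ≅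
          (DerivedCategory.homologyFunctor A n).obj K :=
        ((mapHomology Q.ι n).app K').symm ≪≫ (DerivedCategory.homologyFunctor A n).mapIso eK
      exact P.prop_of_iso e1.symm (hKP n))
    refine ⟨E.mapDerivedCategory.objPreimage M, ?_, ⟨?_⟩⟩
    · refine isLE_of_map E (isZero_of_isZero_obj E) _ b ?_
      rw [DerivedCategory.isLE_iff] at hM ⊢
      intro i hi
      exact (hM i hi).of_iso ((DerivedCategory.homologyFunctor _ i).mapIso
        (E.mapDerivedCategory.objObjPreimageIso M))
    · exact (e.app _).symm ≪≫ Q.ι.mapDerivedCategory.mapIso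
        ((sub P Q).ι.mapDerivedCategory.mapIso (E.mapDerivedCategory.objObjPreimageIso M) ≪≫ eM) ≪≫ eK

end main

end Groth.Agent.Fdesc.SubDer
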